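import Groth.Agent.L29.BCAdj.HomFinite
import Groth.Agent.L29.BCAdj.AffineUnit

/-!
Maps to `O` from complexes in degrees `≤ 0` over a field are linear forms on their sections.
-/

set_option autoImplicit false
set_option backward.defeqAttrib.useBackward true
set_option backward.isDefEq.respectTransparency false
set_option backward.isDefEq.respectTransparency.types false
set_option linter.style.haveILetI false
universe u

open CategoryTheory CategoryTheory.Limits CategoryTheory.Pretriangulated AlgebraicGeometry DerivedCategory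
attribute [local instance] HasDerivedCategory.standard

noncomputable section

namespace Groth.L21.CurveDual

variable (k : Type u) [Field k]

/-- In `D(k)` maps into `k[0]` from complexes in degrees `≤ 0` are given by `H⁰`. -/
theorem homology_map_bijective (N : Dual.D k) [N.IsLE 0] :
    Function.Bijective fun v : N ⟶ Dual.inD k k =>
      (DerivedCategory.homologyFunctor (ModuleCat.{u} k) 0).map v := by
  let t := DerivedCategory.TStructure.t (C := ModuleCat.{u} k)
  let H := DerivedCategory.homologyFunctor (ModuleCat.{u} k) 0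
  haveI : t.IsLE N 0 := ‹N.IsLE 0›
  let π := (t.truncGEπ 0).app N
  let W := (t.truncGE 0).obj N
  haveI hiso : IsIso (H.map π) := Groth.L10.isIso_H_π (A := ModuleCat.{u} k) 0 0 le_rfl N
  haveI : W.IsGE 0 := inferInstanceAs (t.IsGE W 0)
  haveI : W.IsLE 0 := (DerivedCategory.isLE_iff _ _).2 fun i hi => by
    have := Groth.L10.isIso_H_π (A := ModuleCat.{u} k) 0 i (by omega) N
    exact (DerivedCategory.isZero_of_isLE N 0 i hi).of_iso
      (asIso ((DerivedCategory.homologyFunctor (ModuleCat.{u} k) i).map π)).symm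
  obtain ⟨eW⟩ := Groth.L10.exists_iso_single_H W 0
  let M : ModuleCat.{u} k := (DerivedCategory.homologyFunctor (ModuleCat.{u} k) 0).obj W
  let S := DerivedCategory.singleFunctor (ModuleCat.{u} k) 0
  let σ := singleFunctorCompHomologyFunctorIso (ModuleCat.{u} k) 0
  have hS : ∀ a : M ⟶ ModuleCat.of k k, H.map (S.map a) = (σ.app M).hom ≫ a ≫ (σ.app (ModuleCat.of k k)).inv :=
    fun a => (NatIso.naturality_2 σ a).symm
  have hff : ∀ w : W ⟶ Dual.inD k k, ∃ a : M ⟶ ModuleCat.of k k, w = eW.hom ≫ S.map a := fun w => by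
    obtain ⟨a, ha⟩ := S.map_surjective (eW.inv ≫ w)
    exact ⟨a, by rw [ha, eW.hom_inv_id_assoc]⟩
  have hpre : ∀ v : N ⟶ Dual.inD k k, ∃ w : W ⟶ Dual.inD k k, v = π ≫ w := fun v => by
    have h0 : (t.truncLTι 0).app N ≫ v = 0 := by
      haveI : t.IsLE ((t.truncLT 0).obj N) (-1) := t.isLE_truncLT_obj _ _ _ (by omega)
      haveI : t.IsGE (Dual.inD k k) 0 := inferInstanceAs (DerivedCategory.IsGE (Dual.inD k k) 0)
      exact t.zero _ (-1) 0 (by omega)
    exact Triangle.yoneda_exact₂ _ (t.triangleLTGE_distinguished 0 N) v h0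
  constructor
  · intro v v' hvv
    dsimp only at hvv
    obtain ⟨w, rfl⟩ := hpre v
    obtain ⟨w', rfl⟩ := hpre v'
    rw [Functor.map_comp, Functor.map_comp, cancel_epi] at hvv
    obtain ⟨a, rfl⟩ := hff w
    obtain ⟨a', rfl⟩ := hff w'
    rw [Functor.map_comp, Functor.map_comp, cancel_epi, hS, hS, cancel_epi, cancel_mono] at hvv
    rw [hvv]
  · intro g
    refine ⟨π ≫ eW.hom ≫ S.map ((σ.app M).inv ≫ inv (H.map eW.hom) ≫ inv (H.map π) ≫ g ≫
      (σ.app (ModuleCat.of k k)).hom), ?_⟩
    dsimp only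
    rw [Functor.map_comp, Functor.map_comp, hS]
    simp only [Category.assoc, Iso.hom_inv_id_assoc, IsIso.hom_inv_id_assoc, Iso.hom_inv_id, Category.comp_id]
    change H.map π ≫ H.map eW.hom ≫ inv (H.map eW.hom) ≫ inv (H.map π) ≫ g = g
    rw [IsIso.hom_inv_id_assoc, IsIso.hom_inv_id_assoc]

/-- Duality in `D(k)`. -/
theorem dual_inD (N : Dual.D k) [N.IsLE 0] (l : (Dual.inD k k ⟶ N) →ₗ[k] k) :
    ∃! v : N ⟶ Dual.inD k k, ∀ y : Dual.inD k k ⟶ N, y ≫ v = l y • 𝟙 (Dual.inD k k) := by
  let H := DerivedCategory.homologyFunctor (ModuleCat.{u} k) 0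
  have hone : ∀ (v : N ⟶ Dual.inD k k) (y : Dual.inD k k ⟶ N),
      Groth.L29.HomD.evalOne _ (y ≫ v) = H.map v (Groth.L29.HomD.evalOne N y) := fun v y => by
    change H.map (y ≫ v) Groth.L29.HomD.one = H.map v (H.map y Groth.L29.HomD.one)
    rw [Functor.map_comp]
    rfl
  have hid : Groth.L29.HomD.evalOne (Dual.inD k k) (𝟙 _) = (Groth.L29.HomD.one : H.obj (Dual.inD k k)) := by
    change H.map (𝟙 _) Groth.L29.HomD.one = _
    rw [CategoryTheory.Functor.map_id]
    rfl
  let g : H.obj N ⟶ H.obj (Dual.inD k k) := ModuleCat.ofHom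
    ((LinearMap.toSpanSingleton k _ (Groth.L29.HomD.one : H.obj (Dual.inD k k))).comp
      (l.comp (Groth.L29.HomD.evalEquiv N).symm.toLinearMap))
  have hg : ∀ v : N ⟶ Dual.inD k k, (∀ y, y ≫ v = l y • 𝟙 (Dual.inD k k)) ↔ H.map v = g := fun v => by
    constructor
    · intro hv
      refine ModuleCat.hom_ext (LinearMap.ext fun z => ?_)
      obtain ⟨y, rfl⟩ := (Groth.L29.HomD.evalOne_bijective N).2 z
      refine (hone v y).symm.trans ?_
      rw [hv y, map_smul, hid]
      change _ = l ((Groth.L29.HomD.evalEquiv N).symm (Groth.L29.HomD.evalEquiv N y)) •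
        (Groth.L29.HomD.one : H.obj (Dual.inD k k))
      rw [LinearEquiv.symm_apply_apply]
    · intro hv y
      refine (Groth.L29.HomD.evalOne_bijective _).1 ?_
      rw [hone, map_smul, hid, hv]
      refine Eq.trans ?_ (congrArg (fun t => t • (Groth.L29.HomD.one : H.obj (Dual.inD k k)))
        (congrArg l ((Groth.L29.HomD.evalEquiv N).symm_apply_apply y)))
      rfl
  obtain ⟨v, hv⟩ := (homology_map_bijective k N).2 g
  exact ⟨v, (hg v).2 hv, fun v' hv' => (homology_map_bijective k N).1 (((hg v').1 hv').trans hv.symm)⟩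

/-- Scalars are the endomorphisms of `O` on `Spec k`. -/
theorem smul_id_bijective :
    letI : (Spec (CommRingCat.of k)).Over (Spec (CommRingCat.of k)) := ⟨𝟙 _⟩
    Function.Bijective fun r : k => r • 𝟙 (Groth.L29.BCAdj.OD (Spec (CommRingCat.of k))) := by
  letI : (Spec (CommRingCat.of k)).Over (Spec (CommRingCat.of k)) := ⟨𝟙 _⟩
  simp only [Groth.L29.BCAdj.θ_smul]
  refine (Groth.L29.BCAdj.θ_bijective _).comp ?_
  have h : ∀ r : k, Coh.toGlobal ((Spec (CommRingCat.of k)) ↘ Spec (CommRingCat.of k)) r =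
      (Scheme.ΓSpecIso (CommRingCat.of k)).inv r := fun r => by
    change ((𝟙 (Spec (CommRingCat.of k)) : Spec (CommRingCat.of k) ⟶ _).appTop)
      ((Scheme.ΓSpecIso (CommRingCat.of k)).inv r) = _
    rw [Scheme.Hom.id_appTop]
    rfl
  rw [funext h]
  exact ConcreteCategory.bijective_of_isIso (Scheme.ΓSpecIso (CommRingCat.of k)).inv

set_option maxHeartbeats 800000 in
/-- Duality over the point. -/
theorem dual_OD (V : DCoh.D (Spec (CommRingCat.of k))) (hV : DCoh.IsQCohD V) (hle : V.IsLE 0) :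
    letI : (Spec (CommRingCat.of k)).Over (Spec (CommRingCat.of k)) := ⟨𝟙 _⟩
    ∀ l : (Groth.L29.BCAdj.OD (Spec (CommRingCat.of k)) ⟶ V) →ₗ[k] k,
      ∃! v : V ⟶ Groth.L29.BCAdj.OD (Spec (CommRingCat.of k)),
        ∀ y, y ≫ v = l y • 𝟙 (Groth.L29.BCAdj.OD (Spec (CommRingCat.of k))) := by
  letI iS : (Spec (CommRingCat.of k)).Over (Spec (CommRingCat.of k)) := ⟨𝟙 _⟩
  intro l
  let R : CommRingCat.{u} := CommRingCat.of k
  haveI := Groth.L18.TildeF.tilde_preservesFiniteLimits (R := R)
  have hlin : ∀ (a : k) (N : ModuleCat.{u} R),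
      (tilde.functor R).map (a • 𝟙 N) = a • 𝟙 ((tilde.functor R).obj N) := fun a N => by
    rw [KLin.smul_id]
    exact Groth.L17.BC.TensorA.tilde_smul (R := R) a N
  haveI : (tilde.functor R).Additive :=
    haveI : PreservesColimitsOfSize.{0, 0} (tilde.functor R) := tilde.adjunction.leftAdjoint_preservesColimits
    haveI := preservesBinaryBiproducts_of_preservesBinaryCoproducts (tilde.functor R)
    Functor.additive_of_preservesBinaryBiproducts _
  haveI : PreservesFiniteColimits (tilde.functor R) :=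
    haveI : PreservesColimitsOfSize.{0, 0} (tilde.functor R) := tilde.adjunction.leftAdjoint_preservesColimits
    inferInstance
  haveI : (tilde.functor R).Linear k := ⟨fun {N N'} φ a => by
    rw [show a • φ = (a • 𝟙 N) ≫ φ by rw [Linear.smul_comp, Category.id_comp], Functor.map_comp, hlin,
      Linear.smul_comp]
    exact congrArg (a • ·) (Category.id_comp _)⟩
  haveI : (tilde.functor R).Faithful := (tilde.fullyFaithfulFunctor (R := R)).faithful
  obtain ⟨hF, hF'⟩ := Groth.L29.DC.TildeD.fullyFaithful (R := R)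
  obtain ⟨N, ⟨eN⟩⟩ := (Groth.L29.DC.TildeD.isQCohD_iff (R := R) V).1 hV
  haveI : N.IsLE 0 := (DerivedCategory.isLE_iff _ _).2 fun i hi => by
    have h1 : IsZero ((tilde.functor R).obj ((Groth.L02.PC.HH i).obj N)) :=
      ((DerivedCategory.isZero_of_isLE V 0 i hi).of_iso
        ((DerivedCategory.homologyFunctor _ i).mapIso eN)).of_iso (Groth.L29.DC.TildeAlg.hdIso N i).symm
    refine (IsZero.iff_id_eq_zero _).2 ((tilde.functor R).map_injective ?_)
    rw [Functor.map_zero]
    exact h1.eq_of_src _ _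
  let eO : (DCoh.tildeD R).obj (Dual.inD k k) ≅ Groth.L29.BCAdj.OD (Spec R) :=
    ((tilde.functor R).mapDerivedCategorySingleFunctor 0).app (ModuleCat.of k k) ≪≫
      (DerivedCategory.singleFunctor (Spec R).Modules 0).mapIso tildeSelf
  let P : (Dual.inD k k ⟶ N) →ₗ[k] (Groth.L29.BCAdj.OD (Spec R) ⟶ V) :=
    (Linear.homCongr k eO eN).toLinearMap ∘ₗ (DCoh.tildeD R).mapLinearMap k
  have hP : ∀ y, P y = eO.inv ≫ (DCoh.tildeD R).map y ≫ eN.hom := fun y => (Linear.homCongr_apply k eO eN _).trans (Category.assoc _ _ _)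
  let Q : (N ⟶ Dual.inD k k) → (V ⟶ Groth.L29.BCAdj.OD (Spec R)) := fun w =>
    eN.inv ≫ (DCoh.tildeD R).map w ≫ eO.hom
  have hQ : ∀ w, (∀ y, y ≫ w = l (P y) • 𝟙 (Dual.inD k k)) ↔
      ∀ z, z ≫ Q w = l z • 𝟙 (Groth.L29.BCAdj.OD (Spec R)) := fun w => by
    constructor
    · intro hw z
      obtain ⟨y, hy⟩ := (DCoh.tildeD R).map_surjective (eO.hom ≫ z ≫ eN.inv)
      have hz : z = P y := by simp [hP, hy]
      subst hz
      have := congrArg (DCoh.tildeD R).map (hw y)
      rw [Functor.map_comp, Functor.map_smul, CategoryTheory.Functor.map_id] at this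
      rw [hP]
      simp only [Q, Category.assoc, eN.hom_inv_id_assoc]
      rw [reassoc_of% this, ← hP]
      simp
      rfl
    · intro hw y
      apply (DCoh.tildeD R).map_injective
      rw [Functor.map_comp, Functor.map_smul, CategoryTheory.Functor.map_id]
      have := hw (P y)
      rw [hP] at this
      simp only [Q, Category.assoc, eN.hom_inv_id_assoc] at this
      rw [← hP, Iso.inv_comp_eq, ← cancel_mono eO.inv] at this
      simp only [Category.assoc, eO.hom_inv_id, Category.comp_id] at this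
      rw [this, Linear.smul_comp, Linear.comp_smul]
      refine congrArg (l (P y) • ·) ?_
      exact (congrArg (eO.hom ≫ ·) (Category.id_comp eO.inv)).trans eO.hom_inv_id
  obtain ⟨w, hw, huniq⟩ := dual_inD k N (l ∘ₗ P)
  refine ⟨Q w, (hQ w).1 hw, fun v hv => ?_⟩
  obtain ⟨w', hw'⟩ := (DCoh.tildeD R).map_surjective (eN.hom ≫ v ≫ eO.inv)
  have hv' : v = Q w' := by simp [Q, hw']
  subst hv'
  rw [huniq w' ((hQ w').2 hv)]

end Groth.L21.CurveDual
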