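import Groth.Agent.L29.DCoh.Gen.Amp
import Groth.Agent.L29.DCoh.Cpt.QCoh
import Groth.Agent.L17.CohSections
import Groth.Agent.L21.RR.Coh
import Groth.Agent.L26.Pic0.Edge

/-!
`Rf_*` has amplitude one on a curve over a field; the dualizing complex starts in degree `-1`.
-/

set_option autoImplicit false
set_option backward.defeqAttrib.useBackward true
set_option backward.isDefEq.respectTransparency false
set_option backward.isDefEq.respectTransparency.types false
set_option linter.style.haveILetI false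
universe u

open CategoryTheory CategoryTheory.Limits CategoryTheory.Pretriangulated AlgebraicGeometry DerivedCategory Opposite CategoryTheory.Abelian
attribute [local instance] HasDerivedCategory.standard

noncomputable section

namespace Groth.L21.CurveDual

variable (k : Type u) [Field k] {X : Scheme.{u}} [X.Over (Spec (CommRingCat.of k))]
  [IsProper (X ↘ Spec (CommRingCat.of k))]


/-- Higher direct images vanish above degree one. -/
theorem isZero_Rpush (hd : topologicalKrullDim X ≤ 1) (M : X.Modules) (hM : Coh.IsQCoh M) (p : ℕ) (hp : 2 ≤ p) :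
    IsZero ((Coh.Rpush (X ↘ Spec (CommRingCat.of k)) p).obj M) := by
  haveI := hM
  haveI := Groth.L21.RR.isNoetherian_of_proper (X := X) k
  obtain ⟨q, rfl⟩ : ∃ q, p = q + 2 := ⟨p - 2, by omega⟩
  haveI : HasInjectiveResolutions X.Modules := Groth.L17.PushQCoh.hasInjectiveResolutions X
  exact (Groth.Agent.Pic0.subsingleton_HH_iff (R := CommRingCat.of k) (X ↘ Spec (CommRingCat.of k)) M (q + 2)).1
    (Groth.L21.RR.subsingleton_HH_two hd M q)

variable [DCoh.HasRpush (X ↘ Spec (CommRingCat.of k))]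

/-- `Rf_*` raises degrees by at most one. -/
theorem isLE_Rpush (hd : topologicalKrullDim X ≤ 1) (E : DCoh.D X) (hE : DCoh.IsQCohD E) (m : ℤ) (hm : E.IsLE m) :
    ((DCoh.Rpush (X ↘ Spec (CommRingCat.of k))).obj E).IsLE (m + 1) := by
  haveI : HasInjectiveResolutions X.Modules := Groth.L17.PushQCoh.hasInjectiveResolutions X
  letI := Groth.L29.DC.Gen.commShiftRpush (X ↘ Spec (CommRingCat.of k))
  let t := DerivedCategory.TStructure.t (C := X.Modules)
  haveI : t.IsLE E m := hm
  have h0 : DerivedCategory.IsLE (E⟦m⟧) 0 := t.isLE_shift E m m 0 (by omega)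
  have hF : ((DCoh.Rpush (X ↘ Spec (CommRingCat.of k))).obj (E⟦m⟧)).IsLE (1 : ℤ) := (DerivedCategory.isLE_iff _ _).2 fun i hi =>
    Groth.L29.DC.RpushQC.isZero_HD_Rpush (X ↘ Spec (CommRingCat.of k)) 2 (fun M hM p hp => isZero_Rpush k hd M hM p hp) _
      (Groth.L29.DC.Gen.isQCohD_shift hE m) h0 i (by omega)
  haveI hF' : (DerivedCategory.TStructure.t (C := (Spec (CommRingCat.of k)).Modules)).IsLE (((DCoh.Rpush (X ↘ Spec (CommRingCat.of k))).obj E)⟦m⟧) (1 : ℤ) :=
    haveI : (DerivedCategory.TStructure.t (C := (Spec (CommRingCat.of k)).Modules)).IsLE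
      ((shiftFunctor (DCoh.D X) m ⋙ DCoh.Rpush (X ↘ Spec (CommRingCat.of k))).obj E) (1 : ℤ) := hF
    (DerivedCategory.TStructure.t).isLE_of_iso (((DCoh.Rpush (X ↘ Spec (CommRingCat.of k))).commShiftIso m).app E) _
  exact (DerivedCategory.TStructure.t (C := (Spec (CommRingCat.of k)).Modules)).isLE_of_shift _ (m + 1) m 1 (by omega)

variable (h : DCoh.RpushPreservesQCoh (X ↘ Spec (CommRingCat.of k))) [DCoh.HasShriek (X ↘ Spec (CommRingCat.of k)) h] (OY : DCoh.DQCoh (Spec (CommRingCat.of k)))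

/-- The dualizing complex of a curve starts in degree `-1`. -/
theorem isGE_dualizingCx (hd : topologicalKrullDim X ≤ 1) (hO : OY.obj.IsGE 0) :
    (DCoh.dualizingCx (X ↘ Spec (CommRingCat.of k)) h OY).IsGE (-1) := by
  haveI := Groth.L21.RR.isNoetherian_of_proper (X := X) k
  let t := DerivedCategory.TStructure.t (C := X.Modules)
  let tY := DerivedCategory.TStructure.t (C := (Spec (CommRingCat.of k)).Modules)
  let M := DCoh.dualizingCx (X ↘ Spec (CommRingCat.of k)) h OY
  let b : ℤ := -1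
  let E : DCoh.DQCoh X :=
    ⟨(t.truncLT b).obj M, Groth.L29.DC.Cpt.isQCohD_truncLT ((DCoh.shriek (X ↘ Spec (CommRingCat.of k)) h).obj OY).property b⟩
  have hle : E.obj.IsLE (-2) := t.isLE_truncLT_obj _ _ _ (by omega)
  let g : E ⟶ (DCoh.shriek (X ↘ Spec (CommRingCat.of k)) h).obj OY := ObjectProperty.homMk ((t.truncLTι b).app M)
  have hg : g = 0 := by
    apply ((DCoh.shriekAdj (X ↘ Spec (CommRingCat.of k)) h).homEquiv E OY).symm.injective
    haveI h1 : tY.IsLE ((DCoh.Rpush (X ↘ Spec (CommRingCat.of k))).obj E.obj) (-1) := isLE_Rpush k hd E.obj E.property (-2) hle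
    haveI h2 : tY.IsGE OY.obj 0 := hO
    have hz : ∀ φ : (DCoh.Rpush (X ↘ Spec (CommRingCat.of k))).obj E.obj ⟶ OY.obj, φ = 0 := fun φ => tY.zero φ (-1) 0 (by omega)
    exact ObjectProperty.hom_ext _ ((hz _).trans (hz _).symm)
  have h0 : (t.truncLTι b).app M = 0 := congrArg (fun q : E ⟶ (DCoh.shriek (X ↘ Spec (CommRingCat.of k)) h).obj OY => q.hom) hg
  refine (DerivedCategory.isGE_iff _ _).2 fun i hi => ?_
  have hiso := Groth.L10.isIso_H_ι (A := X.Modules) b i (by omega) M
  rw [h0, Functor.map_zero] at hiso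
  refine (IsZero.iff_id_eq_zero _).2 ?_
  haveI := hiso
  rw [← IsIso.inv_hom_id (0 : (DerivedCategory.homologyFunctor X.Modules i).obj ((t.truncLT b).obj M) ⟶
    (DerivedCategory.homologyFunctor X.Modules i).obj M)]
  exact comp_zero

omit [IsProper (X ↘ Spec (CommRingCat.of k))] [DCoh.HasRpush (X ↘ Spec (CommRingCat.of k))] in
/-- Maps from a shifted module to a complex in degrees `≥ -1` factor uniquely through the bottom cohomology. -/
theorem exists_bottom (K : DCoh.D X) (hK : K.IsGE (-1)) :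
    ∃ j : (DCoh.inD X (DCoh.HD K (-1)))⟦(1 : ℤ)⟧ ⟶ K, ∀ F : X.Modules,
      Function.Bijective fun φ : F ⟶ DCoh.HD K (-1) =>
        (((DerivedCategory.singleFunctor X.Modules 0).map φ)⟦(1 : ℤ)⟧' ≫ j) := by
  let t := DerivedCategory.TStructure.t (C := X.Modules)
  let W := (t.truncLT 0).obj K
  have hWle : W.IsLE (-1) := t.isLE_truncLT_obj _ _ _ (by omega)
  have hWge : W.IsGE (-1) := (DerivedCategory.isGE_iff _ _).2 fun i hi => by
    have := Groth.L10.isIso_H_ι (0 : ℤ) i (by omega) K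
    exact (DerivedCategory.isZero_of_isGE K (-1) i hi).of_iso
      (asIso ((homologyFunctor X.Modules i).map ((t.truncLTι 0).app K)))
  obtain ⟨e⟩ := Groth.L10.exists_iso_single_H W (-1)
  have := Groth.L10.isIso_H_ι (0 : ℤ) (-1) (by omega) K
  let e' : (DCoh.inD X (DCoh.HD K (-1)))⟦(1 : ℤ)⟧ ≅ W :=
    ((DerivedCategory.singleFunctors X.Modules).shiftIso (1 : ℤ) (-1) 0 (by omega)).app _ ≪≫
      (DerivedCategory.singleFunctor X.Modules (-1)).mapIso
        (asIso ((homologyFunctor X.Modules (-1)).map ((t.truncLTι 0).app K))).symm ≪≫ e.symm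
  refine ⟨e'.hom ≫ (t.truncLTι 0).app K, fun F => ?_⟩
  let A : DCoh.D X := (DCoh.inD X F)⟦(1 : ℤ)⟧
  haveI : t.IsLE (DCoh.inD X F) 0 := inferInstance
  haveI hA : t.IsLE A (-1) := t.isLE_shift (DCoh.inD X F) 0 1 (-1) (by omega)
  have hinj : ∀ a b : A ⟶ W, a ≫ (t.truncLTι 0).app K = b ≫ (t.truncLTι 0).app K → a = b := fun a b hab =>
    @Triangulated.TStructure.to_truncLT_obj_ext _ _ _ _ _ _ _ t 0 A K a b hab (by simpa using hA)
  have hsur : ∀ v : A ⟶ K, ∃ a : A ⟶ W, a ≫ (t.truncLTι 0).app K = v := fun v => by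
    have h0 : v ≫ (t.truncGEπ 0).app K = 0 := t.zero _ (-1) 0 (by omega)
    obtain ⟨g, hg⟩ := Triangle.coyoneda_exact₂ _ (t.triangleLTGE_distinguished 0 K) v h0
    exact ⟨g, hg.symm⟩
  have hff : Function.Bijective fun φ : F ⟶ DCoh.HD K (-1) =>
      ((DerivedCategory.singleFunctor X.Modules 0).map φ)⟦(1 : ℤ)⟧' :=
    ((Functor.FullyFaithful.ofFullyFaithful (shiftFunctor (DCoh.D X) (1 : ℤ))).map_bijective _ _).comp
      ((Functor.FullyFaithful.ofFullyFaithful (DerivedCategory.singleFunctor X.Modules 0)).map_bijective _ _)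
  constructor
  · intro a b hab
    dsimp only at hab
    rw [← Category.assoc, ← Category.assoc] at hab
    exact hff.1 ((cancel_mono e'.hom).1 (hinj _ _ hab))
  · intro v
    obtain ⟨a, rfl⟩ := hsur v
    obtain ⟨φ, hφ⟩ := hff.2 (a ≫ e'.inv)
    refine ⟨φ, ?_⟩
    dsimp only at hφ ⊢
    rw [hφ, Category.assoc, e'.inv_hom_id_assoc]

end Groth.L21.CurveDual
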