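import Groth.Agent.L21.CurveDual.Ext1
import Groth.Agent.L21.CurveDual.Shriek
import Groth.Agent.L21.CurveDual.KDual
import Groth.Agent.L00.KFlatDerived

/-!
The trace `H¹(X, ω) → k` of a proper curve and duality `Hom(F, ω) = H¹(X, F)^∨`.
-/

set_option autoImplicit false
set_option backward.defeqAttrib.useBackward true
set_option backward.isDefEq.respectTransparency false
set_option backward.isDefEq.respectTransparency.types false
set_option linter.style.haveILetI false
universe u

open CategoryTheory CategoryTheory.Limits CategoryTheory.Pretriangulated CategoryTheory.Abelian AlgebraicGeometry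
  DerivedCategory
attribute [local instance] HasDerivedCategory.standard

noncomputable section

namespace Groth.L21.CurveDual

open Groth.L16.CohLinear (hmap)
open Groth.L29.BCAdj (OD)
open Groth.L29.DC

variable {X : Scheme.{u}}

theorem isQCohD_inD (F : X.Modules) (hF : Coh.IsQCoh F) : DCoh.IsQCohD (DCoh.inD X F) := fun i => by
  rcases eq_or_ne i 0 with rfl | hi
  · exact Groth.L29.DC.isQCoh_of_iso' ((singleFunctorCompHomologyFunctorIso X.Modules 0).app F).symm hF
  · refine isQCoh_of_isZero ?_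
    rcases lt_or_gt_of_ne hi with h | h
    · exact DerivedCategory.isZero_of_isGE _ 0 i h
    · exact DerivedCategory.isZero_of_isLE _ 0 i h

variable (k : Type u) [Field k] [X.Over (Spec (CommRingCat.of k))]

theorem tm_smulModΓ (F : X.Modules) (r : Coh.Γtop X) :
    Groth.L16.CohLinear.tm (Formal.smulModΓ F r) = Coh.smulAb F r := by
  ext U m
  rfl

theorem hmap_smul_id (F : X.Modules) (c : k) (n : ℕ) (z : Coh.HH X F n) :
    hmap (c • 𝟙 F) n z = c • z := by
  rw [KLin.smul_id]
  change Sheaf.H.map (Groth.L16.CohLinear.tm (Formal.smulModΓ F (Coh.toGlobal (X ↘ Spec (CommRingCat.of k)) c))) n z = _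
  rw [tm_smulModΓ]
  rfl

set_option maxHeartbeats 1600000 in
/-- The trace and duality. -/
theorem exists_trace [IsProper (X ↘ Spec (CommRingCat.of k))] (hd : topologicalKrullDim X ≤ 1)
    [DCoh.HasRpush (X ↘ Spec (CommRingCat.of k))] (h : DCoh.RpushPreservesQCoh (X ↘ Spec (CommRingCat.of k)))
    [DCoh.HasShriek (X ↘ Spec (CommRingCat.of k)) h] (OY : DCoh.DQCoh (Spec (CommRingCat.of k)))
    (hOY : Nonempty (OY.obj ≅ DCoh.inD (Spec (CommRingCat.of k)) (Coh.structureModule (Spec (CommRingCat.of k))))) :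
    Coh.IsQCoh (DCoh.dualizingMod (X ↘ Spec (CommRingCat.of k)) h OY 1) ∧
      ∃ t : Coh.HH X (DCoh.dualizingMod (X ↘ Spec (CommRingCat.of k)) h OY 1) 1 →ₗ[k] k,
        ∀ F : X.Modules, Coh.IsQCoh F → ∀ l : Coh.HH X F 1 →ₗ[k] k,
          ∃! φ : F ⟶ DCoh.dualizingMod (X ↘ Spec (CommRingCat.of k)) h OY 1,
            ∀ z, t (hmap φ 1 z) = l z := by
  let f := X ↘ Spec (CommRingCat.of k)
  letI iS : (Spec (CommRingCat.of k)).Over (Spec (CommRingCat.of k)) := ⟨𝟙 _⟩
  haveI := Groth.L21.RR.isNoetherian_of_proper (X := X) k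
  haveI := Groth.L00.KFlat.hasLpull f
  haveI := Groth.L00.Tensor.grothendieckAbelian_modules X
  haveI : HasExt.{u} X.Modules := inferInstance
  haveI : (DCoh.Rpush f).Additive := RpushColim.additive_Rpush f
  have hsq : f ≫ (Spec (CommRingCat.of k) ↘ Spec (CommRingCat.of k)) =
      f ≫ Spec.map (CommRingCat.ofHom (RingHom.id k)) := by
    rw [CommRingCat.ofHom_id, Spec.map_id]; rfl
  obtain ⟨eY⟩ := hOY
  have hK : (DCoh.dualizingCx f h OY).IsGE (-1) := isGE_dualizingCx k h OY hd
    ((DerivedCategory.TStructure.t (C := (Spec (CommRingCat.of k)).Modules)).isGE_of_iso eY.symm 0)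
  refine ⟨((DCoh.shriek f h).obj OY).property _, ?_⟩
  let ω : X.Modules := DCoh.HD (DCoh.dualizingCx f h OY) (-1)
  obtain ⟨j, hj⟩ := exists_bottom (DCoh.dualizingCx f h OY) hK
  obtain ⟨o⟩ := Groth.L29.BCAdj.nonempty_Lpull_OD f
  -- sections upstairs and downstairs
  let Θ : ∀ V : DCoh.D X, (OD X ⟶ V) ≃ₗ[k] (OD (Spec (CommRingCat.of k)) ⟶ (DCoh.Rpush f).obj V) := fun V =>
    { toFun := fun u => (Groth.L29.BC.adj f).homEquiv _ _ (o.hom ≫ u)
      invFun := fun v => o.inv ≫ ((Groth.L29.BC.adj f).homEquiv _ _).symm v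
      left_inv := fun u => by dsimp only; rw [Equiv.symm_apply_apply, o.inv_hom_id_assoc]
      right_inv := fun v => by dsimp only; rw [o.hom_inv_id_assoc, Equiv.apply_symm_apply]
      map_add' := fun a b => by
        simp only [Adjunction.homEquiv_unit, Functor.map_add, Preadditive.comp_add]
      map_smul' := fun r a => by
        have h2 : ∀ {P Q : DCoh.D X} (v : P ⟶ Q), (DCoh.Rpush f).map (r • v) = r • (DCoh.Rpush f).map v :=
          fun v => Groth.L29.BCAdj.Rpush_smul (RingHom.id k) f hsq r v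
        simp only [Adjunction.homEquiv_unit, Linear.comp_smul, h2, RingHom.id_apply] }
  have hΘ : ∀ {V V' : DCoh.D X} (u : OD X ⟶ V) (w : V ⟶ V'), Θ V' (u ≫ w) = Θ V u ≫ (DCoh.Rpush f).map w := by
    intro V V' u w
    change (Groth.L29.BC.adj f).homEquiv _ _ (o.hom ≫ u ≫ w) = (Groth.L29.BC.adj f).homEquiv _ _ (o.hom ≫ u) ≫ _
    rw [← Category.assoc, Adjunction.homEquiv_naturality_right]
  -- cohomology
  let A : X.Modules → DCoh.D X := fun F => (DCoh.inD X F)⟦(1 : ℤ)⟧
  let E : ∀ F : X.Modules, (OD X ⟶ A F) → Coh.HH X F 1 := fun F y =>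
    ev F 1 (Ext.homEquiv.symm y)
  have hE : ∀ F, Function.Bijective (E F) := fun F =>
    (ev_bijective F).comp Ext.homEquiv.symm.bijective
  have hEnat : ∀ {F G : X.Modules} (g : F ⟶ G) (y : OD X ⟶ A F),
      E G (y ≫ ((DerivedCategory.singleFunctor X.Modules 0).map g)⟦(1 : ℤ)⟧') = hmap g 1 (E F y) := by
    intro F G g y
    simp only [E]
    rw [← ev_natural]
    refine congrArg (ev G 1) ?_
    apply Ext.homEquiv.injective
    rw [Equiv.apply_symm_apply]
    symm
    refine (Ext.comp_hom _ _ _).trans ?_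
    rw [Ext.mk₀_hom]
    refine (ShiftedHom.comp_mk₀ _ _ _ _).trans ?_
    simp only [Ext.hom, Equiv.apply_symm_apply]
    rfl
  have hEadd : ∀ F (a b : OD X ⟶ A F), E F (a + b) = E F a + E F b := fun F a b => by
    simp only [E]
    rw [← map_add]
    refine congrArg _ ?_
    apply Ext.homEquiv.injective
    rw [Equiv.apply_symm_apply]
    refine Eq.trans ?_ (Ext.add_hom _ _).symm
    simp only [Ext.hom, Equiv.apply_symm_apply]
  let eH : ∀ F, (OD X ⟶ A F) ≃ₗ[k] Coh.HH X F 1 := fun F => LinearEquiv.ofBijective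
    { toFun := E F
      map_add' := hEadd F
      map_smul' := fun c y => by
        have h1 : c • y = y ≫ ((DerivedCategory.singleFunctor X.Modules 0).map (c • 𝟙 F))⟦(1 : ℤ)⟧' := by
          rw [Functor.map_smul, CategoryTheory.Functor.map_id, Functor.map_smul, CategoryTheory.Functor.map_id,
            Linear.comp_smul]
          exact congrArg (c • ·) (Category.comp_id y).symm
        rw [h1, hEnat, hmap_smul_id]
        rfl } (hE F)
  -- maps to the dualizing complex
  let ε : (DCoh.Rpush f).obj (DCoh.dualizingCx f h OY) ⟶ OD (Spec (CommRingCat.of k)) :=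
    ((DCoh.shriekAdj f h).counit.app OY).hom ≫ eY.hom
  have hqA : ∀ F : X.Modules, Coh.IsQCoh F → DCoh.IsQCohD (A F) := fun F hF =>
    Gen.isQCohD_shift (isQCohD_inD F hF) 1
  have hΨ : ∀ F : X.Modules, Coh.IsQCoh F → Function.Bijective fun φ : F ⟶ ω =>
      (DCoh.Rpush f).map (((DerivedCategory.singleFunctor X.Modules 0).map φ)⟦(1 : ℤ)⟧' ≫ j) ≫ ε := by
    intro F hF
    let Q : DCoh.DQCoh X := ⟨A F, hqA F hF⟩
    have h1 : Function.Bijective fun v : A F ⟶ DCoh.dualizingCx f h OY => (DCoh.Rpush f).map v ≫ ε := by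
      constructor
      · intro a b hab
        dsimp only [ε] at hab
        rw [← Category.assoc, ← Category.assoc, cancel_mono] at hab
        have := ((DCoh.shriekAdj f h).homEquiv Q OY).symm.injective
          (a₁ := ObjectProperty.homMk a) (a₂ := ObjectProperty.homMk b) (ObjectProperty.hom_ext _ (by
            rw [Adjunction.homEquiv_counit, Adjunction.homEquiv_counit]
            exact hab))
        exact congrArg (fun q : Q ⟶ (DCoh.shriek f h).obj OY => q.hom) this
      · intro v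
        let w : Q ⟶ (DCoh.shriek f h).obj OY :=
          (DCoh.shriekAdj f h).homEquiv Q OY (ObjectProperty.homMk (v ≫ eY.inv))
        refine ⟨w.hom, ?_⟩
        have h2 : (((DCoh.shriekAdj f h).homEquiv Q OY).symm w).hom = v ≫ eY.inv := by
          simp only [w, Equiv.symm_apply_apply]
          rfl
        rw [Adjunction.homEquiv_counit] at h2
        change (DCoh.Rpush f).map w.hom ≫ ((DCoh.shriekAdj f h).counit.app OY).hom ≫ eY.hom = v
        rw [← Category.assoc]
        exact (congrArg (· ≫ eY.hom) h2).trans (by rw [Category.assoc, eY.inv_hom_id, Category.comp_id])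
    exact h1.comp (hj F)
  -- the trace
  let S := Equiv.ofBijective _ (smul_id_bijective k)
  have hS : ∀ r : k, S r = r • 𝟙 (OD (Spec (CommRingCat.of k))) := fun r => rfl
  let pair : (OD X ⟶ A ω) → k := fun y => S.symm (Θ _ y ≫ (DCoh.Rpush f).map j ≫ ε)
  have hpair : ∀ y, pair y • 𝟙 (OD (Spec (CommRingCat.of k))) = Θ _ y ≫ (DCoh.Rpush f).map j ≫ ε := fun y => by
    rw [← hS]
    exact S.apply_symm_apply _
  let pl : (OD X ⟶ A ω) →ₗ[k] k :=
    { toFun := pair
      map_add' := fun a b => S.injective (by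
        rw [hS, hS, add_smul, hpair, hpair, hpair, map_add, Preadditive.add_comp])
      map_smul' := fun c a => S.injective (by
        rw [hS, hS, RingHom.id_apply, smul_eq_mul, mul_smul, hpair, hpair, map_smul, Linear.smul_comp]) }
  refine ⟨pl ∘ₗ (eH ω).symm.toLinearMap, fun F hF l => ?_⟩
  have key : ∀ (φ : F ⟶ ω) (y : OD X ⟶ A F),
      (pl ∘ₗ (eH ω).symm.toLinearMap) (hmap φ 1 (eH F y)) • 𝟙 (OD (Spec (CommRingCat.of k))) =
        Θ _ y ≫ (DCoh.Rpush f).map (((DerivedCategory.singleFunctor X.Modules 0).map φ)⟦(1 : ℤ)⟧' ≫ j) ≫ ε := by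
    intro φ y
    rw [show hmap φ 1 (eH F y) = eH ω (y ≫ ((DerivedCategory.singleFunctor X.Modules 0).map φ)⟦(1 : ℤ)⟧') from
      (hEnat φ y).symm]
    change pair ((eH ω).symm (eH ω _)) • _ = _
    rw [LinearEquiv.symm_apply_apply, hpair, hΘ, Category.assoc, Functor.map_comp, Category.assoc]
  -- the target is in degrees `≤ 0`
  have hVq : DCoh.IsQCohD ((DCoh.Rpush f).obj (A F)) := h _ (hqA F hF)
  have hVle : ((DCoh.Rpush f).obj (A F)).IsLE 0 := by
    haveI : (DerivedCategory.TStructure.t (C := X.Modules)).IsLE (DCoh.inD X F) 0 := inferInstance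
    exact isLE_Rpush k hd (A F) (hqA F hF) (-1)
      ((DerivedCategory.TStructure.t (C := X.Modules)).isLE_shift (DCoh.inD X F) 0 1 (-1) (by omega))
  obtain ⟨v, hv, hvu⟩ := dual_OD k _ hVq hVle (l ∘ₗ (eH F).toLinearMap ∘ₗ (Θ (A F)).symm.toLinearMap)
  obtain ⟨φ, hφ⟩ := (hΨ F hF).2 v
  dsimp only at hφ
  refine ⟨φ, fun z => ?_, fun φ' hφ' => ?_⟩
  · obtain ⟨y, rfl⟩ := (eH F).surjective z
    refine (smul_id_bijective k).1 ?_
    dsimp only
    refine (key φ y).trans ?_
    refine (congrArg (Θ _ y ≫ ·) hφ).trans ((hv (Θ _ y)).trans ?_)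
    simp
  · refine (hΨ F hF).1 ?_
    dsimp only
    rw [hφ]
    refine hvu _ fun w => ?_
    obtain ⟨y, rfl⟩ := (Θ (A F)).surjective w
    refine (key φ' y).symm.trans ((congrArg (· • 𝟙 (OD (Spec (CommRingCat.of k)))) (hφ' (eH F y))).trans ?_)
    simp

end Groth.L21.CurveDual
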