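import Groth.Agent.L21.CurveDual.Twist
import Groth.Agent.L13.DecBound.Basic
import Groth.Agent.L17.Approx.Extend
import Groth.Agent.L22.CurveDeg.ZeroDim

/-!
The dualizing module of a proper curve is coherent.
-/

set_option autoImplicit false
set_option backward.isDefEq.respectTransparency false
set_option backward.isDefEq.respectTransparency.types false
set_option linter.style.haveILetI false
universe u

open CategoryTheory CategoryTheory.Limits AlgebraicGeometry Opposite TopologicalSpace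
open scoped ZeroObject

noncomputable section

namespace Groth.L21.CurveDual

open Groth.L16.CohLinear (hmap)
open Groth.L21.RR (SuppClosed h st e0)
open Groth.L18.Ample (tw)
open Groth.L00.Tensor (tensorIso tensorComm)
open Groth.L22.CurveDeg (phi)

variable {X : Scheme.{u}} (k : Type u) [Field k] [X.Over (Spec (CommRingCat.of k))]
  [IsProper (X ↘ Spec (CommRingCat.of k))]

omit [IsProper (X ↘ Spec (CommRingCat.of k))] in
theorem phi_eq_mult (L C : X.Modules) : phi k L 1 C = DecSh.mult k X L C := by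
  rw [phi, DecSh.mult, Nat.cast_one, one_mul, Groth.L03.Euler.euler_iso (tensorComm L C)]

/-- A coherent module on a curve without linear growth has zero-dimensional support. -/
theorem suppClosed_of_phi_le (hd : topologicalKrullDim X ≤ 1) {L : X.Modules} (hL : CohB1.IsAmple L)
    {C : X.Modules} (hC : Coh.IsCoh C) (hle : phi k L 1 C ≤ 0) : SuppClosed C := by
  haveI := Groth.L21.RR.isNoetherian_of_proper (X := X) k
  by_cases h0 : IsZero C
  · intro x _
    exact ModuleCat.subsingleton_of_isZero ((Groth.L00.Stk.F X x).map_isZero h0)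
  have hdim : topologicalKrullDim (CohB1.support C) ≤ ((1 : ℕ) : WithBot ℕ∞) :=
    (Topology.IsInducing.subtypeVal.topologicalKrullDim_le).trans hd
  obtain ⟨e, he, heq⟩ := Groth.L03.ShStab.Basic.exists_nat_dim h0 hdim
  rcases Nat.le_one_iff_eq_zero_or_eq_one.1 he with rfl | rfl
  · exact Groth.L22.CurveDeg.suppClosed_of_dim hC heq.le
  · exfalso
    obtain ⟨P, hdeg, hP⟩ := Groth.L03.Euler.exists_isHilbPoly (k := k) hL.1 hC hdim
    have h1 := Groth.L03.ShStab.PolyOrd.alpha_pos_iff.1 (Groth.L03.ShStab.Basic.alpha_pos hL hC heq hP)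
    rw [← Groth.L13.DecBound.mult_eq_coeff hdeg hP, ← phi_eq_mult] at h1
    have : (0 : ℤ) < phi k L 1 C := by exact_mod_cast h1
    omega

/-- Monomorphisms of coherent modules: the invariants of the cokernel. -/
theorem phi_coker (hd : topologicalKrullDim X ≤ 1) {L : X.Modules} (hL : CohB1.IsAmple L) {G C : X.Modules}
    (i : G ⟶ C) [Mono i] (hG : Coh.IsCoh G) (hC : Coh.IsCoh C) :
    phi k L 1 G ≤ phi k L 1 C ∧ (phi k L 1 C ≤ phi k L 1 G →
      SuppClosed (cokernel i) ∧ Curv2.euler k X C = Curv2.euler k X G + h k 0 (cokernel i)) := by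
  have hQc : Coh.IsCoh (cokernel i) := (Groth.L03.ShStab.Basic.coh_parts k hG hC i).2.2
  let T : ShortComplex X.Modules := ShortComplex.mk i (cokernel.π i) (cokernel.condition _)
  have hses : T.ShortExact := { exact := ShortComplex.exact_cokernel i }
  have hadd : phi k L 1 T.X₂ = phi k L 1 T.X₁ + phi k L 1 T.X₃ := by
    simp only [phi_eq_mult]
    exact Groth.L13.DecBound.mult_add (k := k) hL hses hG hC hQc
  have h3 : 0 ≤ phi k L 1 (cokernel i) := by
    rw [phi_eq_mult]
    exact Groth.L13.DecBound.mult_nonneg hL hd hQc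
  change phi k L 1 C = phi k L 1 G + phi k L 1 (cokernel i) at hadd
  refine ⟨by omega, fun hle => ?_⟩
  have hs := suppClosed_of_phi_le k hd hL hQc (by omega)
  refine ⟨hs, ?_⟩
  have h4 : Curv2.euler k X T.X₂ = Curv2.euler k X T.X₁ + Curv2.euler k X T.X₃ :=
    Groth.L03.Euler.euler_add (k := k) hses hG hC hQc
  change Curv2.euler k X C = Curv2.euler k X G + Curv2.euler k X (cokernel i) at h4
  rw [Groth.L21.RR.euler_eq_h0_of_suppClosed k hs] at h4
  exact h4

variable {k} {ω : X.Modules} {t : Coh.HH X ω 1 →ₗ[k] k}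

theorem euler_tw_sub_le (hd : topologicalKrullDim X ≤ 1) (hω : Canon.IsRDualOver k X 1 ω t) (P : Pol k X)
    {G : X.Modules} (hG : Coh.IsCoh G) (i : G ⟶ ω) [Mono i] (n : ℕ) :
    Curv2.euler k X G + n * phi k P.Q 1 G ≤ h k 1 (tw (Coh.structureModule X) P.R n) := by
  haveI := Groth.L21.RR.isNoetherian_of_proper (X := X) k
  obtain ⟨j, hj⟩ := mono_tw_map P.invQ n i inferInstance
  haveI : Module.Finite k (Coh.HH X (tw ω P.Q n) 0) :=
    haveI := finite_h0_tw_dual hω P n _ Groth.L16.CohClosedPush.isCoh_structure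
    Module.Finite.equiv (LinearEquiv.ofBijective _ (homH0_bijective (k := k) (tw ω P.Q n)))
  have h1 : h k 0 (tw G P.Q n) ≤ h k 0 (tw ω P.Q n) :=
    LinearMap.finrank_le_finrank_of_injective (f := Groth.L21.RR.hk k j 0) (Groth.L21.RR.injective_hmap_zero _)
  rw [h0_tw_dual hω P n] at h1
  have h2 := Groth.L21.RR.euler_eq k hd (tw G P.Q n)
  rw [euler_tw hd P.invQ hG n] at h2
  have h1' : (h k 0 (tw G P.Q n) : ℤ) ≤ h k 1 (tw (Coh.structureModule X) P.R n) := by exact_mod_cast h1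
  have h3 : (0 : ℤ) ≤ h k 1 (tw G P.Q n) := Int.natCast_nonneg _
  linarith

omit [IsProper (X ↘ Spec (CommRingCat.of k))] [X.Over (Spec (CommRingCat.of k))] in
theorem isZero_of_suppClosed_of_sections {X : Scheme.{u}} [AlgebraicGeometry.IsNoetherian X] {C : X.Modules} (hs : SuppClosed C)
    [Subsingleton (Coh.HH X C 0)] : IsZero C := by
  refine (Groth.L21.Mod.isZero_iff_stalk_subsingleton C).2 fun x => ⟨fun a b => ?_⟩
  obtain ⟨s, hs1, -⟩ := Groth.L21.RR.exists_section_germ hs x a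
  obtain ⟨s', hs1', -⟩ := Groth.L21.RR.exists_section_germ hs x b
  rw [← hs1, ← hs1']
  exact congrArg _ ((e0 C).symm.injective (Subsingleton.elim _ _))

/-- The dualizing module of a curve is coherent. -/
theorem isCoh (hd : topologicalKrullDim X ≤ 1) (hω : Canon.IsRDualOver k X 1 ω t) : Coh.IsCoh ω := by
  classical
  haveI := Groth.L21.RR.isNoetherian_of_proper (X := X) k
  haveI : Coh.IsQCoh ω := hω.1
  obtain ⟨P, -⟩ := nonempty_pol k hd ∅ Set.finite_empty
  -- values of the multiplicity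
  let S : ℤ → Prop := fun m => ∃ (G : X.Modules) (i : G ⟶ ω), Mono i ∧ Coh.IsCoh G ∧ phi k P.Q 1 G = m
  let O := Coh.structureModule X
  let a : ℤ := -phi k P.R 1 O
  let b : ℤ := h k 0 O - Curv2.euler k X O
  have hS : ∀ m, S m → m ≤ a := by
    rintro m ⟨G, i, hi, hG, rfl⟩
    by_contra hlt
    push Not at hlt
    let n : ℕ := (b - Curv2.euler k X G).toNat + 1
    have h1 := euler_tw_sub_le hd hω P hG i n
    have h2 := h1_tw_le (k := k) hd P n
    have h3 : (b - Curv2.euler k X G) < (n : ℤ) := by omega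
    have h4 : (n : ℤ) * 1 ≤ n * (phi k P.Q 1 G - a) :=
      mul_le_mul_of_nonneg_left (by omega) (Int.natCast_nonneg _)
    nlinarith [h1, h2, h3, h4]
  have hne : ∃ m, S m := ⟨_, 0, 0, (isZero_zero _).mono _,
    Groth.L16.Devissage.isCoh_of_isZero (isZero_zero _), rfl⟩
  obtain ⟨m, ⟨G₀, i₀, hi₀, hG₀, hm⟩, hmax⟩ := Int.exists_greatest_of_bdd (P := S) ⟨a, hS⟩ hne
  have hquot : ∀ {G C : X.Modules} (i : G ⟶ C) (c : C ⟶ ω), Mono i → Mono c → Coh.IsCoh G → Coh.IsCoh C →
      phi k P.Q 1 G = m → SuppClosed (cokernel i) ∧ phi k P.Q 1 C = m ∧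
        Curv2.euler k X C = Curv2.euler k X G + h k 0 (cokernel i) := by
    intro G C i c hi hc hG hC hGm
    obtain ⟨hle, himp⟩ := phi_coker k hd P.ample i hG hC
    have h2 : phi k P.Q 1 C ≤ m := hmax _ ⟨C, c, hc, hC, rfl⟩
    obtain ⟨hs, he⟩ := himp (hGm ▸ h2)
    exact ⟨hs, by omega, he⟩
  let S' : ℤ → Prop := fun e => ∃ (G : X.Modules) (i : G ⟶ ω), Mono i ∧ Coh.IsCoh G ∧ phi k P.Q 1 G = m ∧
    Curv2.euler k X G = e
  have hS' : ∀ e, S' e → e ≤ h k 1 (tw O P.R 0) := by
    rintro e ⟨G, i, hi, hG, -, rfl⟩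
    simpa using euler_tw_sub_le hd hω P hG i 0
  obtain ⟨e, ⟨G₁, i₁, hi₁, hG₁, hm₁, he₁⟩, hmax'⟩ :=
    Int.exists_greatest_of_bdd (P := S') ⟨_, hS'⟩ ⟨_, G₀, i₀, hi₀, hG₀, hm, rfl⟩
  haveI : Coh.IsQCoh G₁ := hG₁.1
  have key : ∀ (W : X.Opens), IsAffineOpen W → Function.Surjective (i₁.app W) := by
    intro W hW s
    obtain ⟨F, j, hj, hFq, hFt, hs⟩ := Groth.L17.Approx.exists_submodule_sections ω W hW.isCompact
      (fun _ : PUnit.{u + 1} => s)
    obtain ⟨C, c, a', b', hc, hC, ha', hb'⟩ := Groth.L17.Approx.exists_sup i₁ j hG₁ ⟨hFq, hFt⟩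
    haveI : Mono (a' ≫ c) := ha' ▸ hi₁
    haveI : Mono a' := mono_of_mono a' c
    obtain ⟨hsc, hCm, hCe⟩ := hquot a' c inferInstance hc hG₁ hC hm₁
    have h5 : Curv2.euler k X C ≤ e := hmax' _ ⟨C, c, hc, hC, hCm, rfl⟩
    have h6 : h k 0 (cokernel a') = 0 := by omega
    haveI := Groth.L21.RR.finite_HH' (X := X) k (Groth.L03.ShStab.Basic.coh_parts k hG₁ hC a').2.2 0
    haveI : Subsingleton (Coh.HH X (cokernel a') 0) := Module.finrank_zero_iff.1 h6
    haveI : Epi a' := Preadditive.epi_of_isZero_cokernel a' (isZero_of_suppClosed_of_sections hsc)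
    haveI : IsIso a' := isIso_of_mono_of_epi a'
    obtain ⟨y, hy⟩ := hs PUnit.unit
    refine ⟨(inv a').app W (b'.app W y), ?_⟩
    rw [← hy, ← hb', ← ha']
    show c.app W (a'.app W ((inv a').app W (b'.app W y))) = c.app W (b'.app W y)
    congr 1
    exact congr(($(IsIso.inv_hom_id a')).app W (b'.app W y))
  haveI : Epi i₁ := Groth.L17.Approx.epi_of_surjective_cover i₁ (fun V : X.affineOpens => V.1) (fun V => V.2)
    (fun x => by
      obtain ⟨_, ⟨V, hV, rfl⟩, hxV, -⟩ :=
        X.isBasis_affineOpens.exists_subset_of_mem_open (Set.mem_univ x) isOpen_univ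
      exact ⟨⟨V, hV⟩, hxV⟩) fun V => key V.1 V.2
  exact ⟨hω.1, Groth.L17.Approx.isFT_of_epi i₁ hG₁.2⟩

end Groth.L21.CurveDual
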