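import Groth.Agent.L21.CurveDual.Coherent
import Groth.Agent.L16.Existence.AmpleVanish

/-!
Euler characteristics: `χ(ω) + χ(O)` and `h¹(ω) ≤ h⁰(O)`.
-/

set_option autoImplicit false
set_option backward.isDefEq.respectTransparency false
set_option backward.isDefEq.respectTransparency.types false
set_option linter.style.haveILetI false
universe u

open CategoryTheory CategoryTheory.Limits AlgebraicGeometry Opposite

noncomputable section

namespace Groth.L21.CurveDual

open Groth.L21.RR (SuppClosed h)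
open Groth.L18.Ample (tw)
open Groth.L00.Tensor (tensorIso tensorComm tensorAssoc tensorUnitLeft)
open Groth.L22.CurveDeg (phi)

variable {X : Scheme.{u}}

/-- Iterated twists are twists by powers. -/
def twIso (M L : X.Modules) : ∀ n : ℕ, tw M L n ≅ CohB1.tensorMod (CohB1.tensorPow L n) M
  | 0 => (tensorUnitLeft M).symm
  | n + 1 => tensorIso (twIso M L n) (Iso.refl L) ≪≫ tensorAssoc _ M L ≪≫
      tensorIso (Iso.refl _) (tensorComm M L) ≪≫ (tensorAssoc _ L M).symm

variable {k : Type u} [Field k] [X.Over (Spec (CommRingCat.of k))] [IsProper (X ↘ Spec (CommRingCat.of k))]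
  {ω : X.Modules} {t : Coh.HH X ω 1 →ₗ[k] k}

/-- Serre vanishing for iterated twists. -/
theorem exists_h1_tw_zero (P : Pol k X) {M : X.Modules} (hM : Coh.IsCoh M) :
    ∃ n₀, ∀ n, n₀ ≤ n → Subsingleton (Coh.HH X (tw M P.Q n) 1) := by
  obtain ⟨d₀, hd₀⟩ := Groth.L16.Existence.exists_vanishing_of_isAmple (A := k) P.ample hM
  exact ⟨d₀, fun n hn => Groth.L22.EnrSev.subsingleton_of_iso (twIso M P.Q n).symm 1 (hd₀ n hn 1 one_pos)⟩

/-- `h⁰(Rⁿ)` is eventually the defect of `χ(ω) = -χ(O)`. -/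
theorem exists_defect (hd : topologicalKrullDim X ≤ 1) (hω : Canon.IsRDualOver k X 1 ω t) (P : Pol k X) :
    phi k P.Q 1 ω = -phi k P.R 1 (Coh.structureModule X) ∧
    ∃ n₀, ∀ n, n₀ ≤ n → Curv2.euler k X ω + Curv2.euler k X (Coh.structureModule X) =
      h k 0 (tw (Coh.structureModule X) P.R n) := by
  haveI := Groth.L21.RR.isNoetherian_of_proper (X := X) k
  let O := Coh.structureModule X
  have hO : Coh.IsCoh O := Groth.L16.CohClosedPush.isCoh_structure
  have hωc := isCoh hd hω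
  obtain ⟨n₀, hn₀⟩ := exists_h1_tw_zero P hωc
  have eq : ∀ n, n₀ ≤ n → (Curv2.euler k X ω + Curv2.euler k X O) +
      (n : ℤ) * (phi k P.Q 1 ω + phi k P.R 1 O) = h k 0 (tw O P.R n) := by
    intro n hn
    have h1 := Groth.L21.RR.euler_eq k hd (tw ω P.Q n)
    rw [euler_tw hd P.invQ hωc n, h0_tw_dual hω P n,
      Groth.L21.RR.h_eq_zero_of_subsingleton k (hn₀ n hn)] at h1
    have h2 := Groth.L21.RR.euler_eq k hd (tw O P.R n)
    rw [euler_tw hd P.invR hO n] at h2
    simp only [Nat.cast_zero, sub_zero] at h1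
    linarith
  have hbd : ∀ n, (h k 0 (tw O P.R n) : ℤ) ≤ h k 0 O := by
    intro n
    have h1 := h1_tw_le (k := k) hd P n
    have h2 := Groth.L21.RR.euler_eq k hd (tw O P.R n)
    rw [euler_tw hd P.invR hO n] at h2
    linarith
  let A : ℤ := Curv2.euler k X ω + Curv2.euler k X O
  let B : ℤ := phi k P.Q 1 ω + phi k P.R 1 O
  have hB : B = 0 := by
    rcases lt_trichotomy B 0 with hlt | h0 | hgt
    · exfalso
      let n : ℕ := n₀ + A.natAbs + 1
      have h1 : (0 : ℤ) ≤ A + (n : ℤ) * B := by rw [eq n (by omega)]; exact Int.natCast_nonneg _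
      have h2 : (n : ℤ) * B ≤ (n : ℤ) * (-1) := mul_le_mul_of_nonneg_left (by omega) (Int.natCast_nonneg _)
      have h3 : A < (n : ℤ) := by omega
      linarith
    · exact h0
    · exfalso
      let n : ℕ := n₀ + A.natAbs + h k 0 O + 1
      have h1 : A + (n : ℤ) * B ≤ h k 0 O := by rw [eq n (by omega)]; exact hbd n
      have h2 : (n : ℤ) * 1 ≤ (n : ℤ) * B := mul_le_mul_of_nonneg_left (by omega) (Int.natCast_nonneg _)
      have h3 : (h k 0 O : ℤ) - A < (n : ℤ) := by omega
      linarith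
  refine ⟨show phi k P.Q 1 ω = -phi k P.R 1 O by omega, n₀, fun n hn => ?_⟩
  have := eq n hn
  rw [show phi k P.Q 1 ω + phi k P.R 1 O = 0 from hB, mul_zero, add_zero] at this
  exact this

/-- `h¹(ω) ≤ h⁰(O)`. -/
theorem h1_le (hd : topologicalKrullDim X ≤ 1) (hω : Canon.IsRDualOver k X 1 ω t) :
    h k 1 ω ≤ h k 0 (Coh.structureModule X) := by
  obtain ⟨P, -⟩ := nonempty_pol k hd ∅ Set.finite_empty
  obtain ⟨-, n₀, hn₀⟩ := exists_defect hd hω P
  have h1 := hn₀ n₀ le_rfl
  rw [Groth.L21.RR.euler_eq k hd ω, Groth.L21.RR.euler_eq k hd (Coh.structureModule X), h0_eq hω] at h1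
  omega

/-- Without closed associated points `χ(ω) = -χ(O)`. -/
theorem euler_eq_neg (hd : topologicalKrullDim X ≤ 1) (hω : Canon.IsRDualOver k X 1 ω t)
    (hass : ∀ x : X, IsClosed ({x} : Set X) → ¬ Curv2.IsAssPoint (Coh.structureModule X) x) :
    Curv2.euler k X ω = -Curv2.euler k X (Coh.structureModule X) := by
  haveI := Groth.L21.RR.isNoetherian_of_proper (X := X) k
  obtain ⟨P, -⟩ := nonempty_pol k hd ∅ Set.finite_empty
  obtain ⟨-, n₀, hn₀⟩ := exists_defect hd hω P
  obtain ⟨j₀, hj₀⟩ := Groth.L22.EnrSev.subsingleton_H0_tw k P.e P.invQ P.invR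
    Groth.L16.CohClosedPush.isCoh_structure hass P.φ P.affine P.ass
  have h1 := hn₀ (max n₀ j₀) (le_max_left _ _)
  rw [Groth.L21.RR.h_eq_zero_of_subsingleton k (hj₀ _ (le_max_right _ _))] at h1
  omega

end Groth.L21.CurveDual
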