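import Groth.Agent.L21.CurveDual.Duality
import Groth.Agent.L29.DCoh.RpushQCoh
import Groth.Agent.S1766

/-!
Every proper curve over a field has a dualizing pair.
-/

set_option autoImplicit false
set_option backward.isDefEq.respectTransparency false
set_option linter.style.haveILetI false
universe u

open CategoryTheory CategoryTheory.Limits AlgebraicGeometry
attribute [local instance] HasDerivedCategory.standard

noncomputable section

namespace Groth.L21.CurveDual

variable {X : Scheme.{u}} (k : Type u) [Field k] [X.Over (Spec (CommRingCat.of k))]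
  [IsProper (X ↘ Spec (CommRingCat.of k))]

/-- A proper curve has a dualizing module with trace. -/
theorem exists_isRDual_of_proper (hd : topologicalKrullDim X ≤ 1) :
    ∃ (ω : X.Modules) (t : Coh.HH X ω 1 →ₗ[k] k), Canon.IsRDualOver k X 1 ω t := by
  haveI := Groth.L21.RR.isNoetherian_of_proper (X := X) k
  haveI : X.IsSeparated := ⟨by rw [← Limits.terminal.comp_from (X ↘ Spec (CommRingCat.of k))]; infer_instance⟩
  haveI := Groth.L29.DC.RpushQC.hasRpush (X ↘ Spec (CommRingCat.of k))
  have hq : DCoh.RpushPreservesQCoh (X ↘ Spec (CommRingCat.of k)) := fun K hK =>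
    Groth.L29.DC.RpushQC.isQCohD_Rpush _ K hK
  haveI : DCoh.HasShriek (X ↘ Spec (CommRingCat.of k)) hq :=
    Groth.Agent.S1766.result X (Spec (CommRingCat.of k)) (X ↘ Spec (CommRingCat.of k)) hq
  let OY : DCoh.DQCoh (Spec (CommRingCat.of k)) :=
    ⟨DCoh.inD _ (Coh.structureModule _), isQCohD_inD _ Groth.L16.CohClosedPush.isCoh_structure.1⟩
  obtain ⟨t, ht⟩ := exists_isRDual k hd hq OY ⟨Iso.refl _⟩
  exact ⟨_, t, ht⟩

end Groth.L21.CurveDual
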