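import Groth.Agent.L21.CurveDual.Duality
import Groth.Agent.L16.QcqsPush
import Groth.Agent.L19.ProjBdl.KerSect

/-!
The dualizing module has no sections supported at closed points.
-/

set_option autoImplicit false
set_option backward.isDefEq.respectTransparency false
set_option backward.isDefEq.respectTransparency.types false
set_option linter.style.haveILetI false
universe u

open CategoryTheory CategoryTheory.Limits AlgebraicGeometry Opposite
attribute [local instance] HasDerivedCategory.standard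

noncomputable section

namespace Groth.L21.CurveDual

open Groth.L21.RR (SuppClosed h st)

variable {X : Scheme.{u}} {k : Type u} [Field k] [X.Over (Spec (CommRingCat.of k))]
  [IsProper (X ↘ Spec (CommRingCat.of k))]

/-- Any right adjoint computes the dualizing module. -/
theorem exists_isRDual_adj (hd : topologicalKrullDim X ≤ 1)
    [DCoh.HasRpush (X ↘ Spec (CommRingCat.of k))] (h : DCoh.RpushPreservesQCoh (X ↘ Spec (CommRingCat.of k)))
    (a : DCoh.DQCoh (Spec (CommRingCat.of k)) ⥤ DCoh.DQCoh X)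
    (adj : DCoh.RpushQ (X ↘ Spec (CommRingCat.of k)) h ⊣ a) (OY : DCoh.DQCoh (Spec (CommRingCat.of k)))
    (hOY : Nonempty (OY.obj ≅ DCoh.inD (Spec (CommRingCat.of k)) (Coh.structureModule (Spec (CommRingCat.of k))))) :
    ∃ (ω : X.Modules) (t : Coh.HH X ω 1 →ₗ[k] k), Canon.IsRDualOver k X 1 ω t ∧
      Nonempty (ω ≅ DCoh.HD (a.obj OY).obj (-(1 : ℤ))) := by
  haveI : DCoh.HasShriek (X ↘ Spec (CommRingCat.of k)) h := adj.isLeftAdjoint
  obtain ⟨t, ht⟩ := exists_isRDual k hd h OY hOY
  let e := ((DCoh.shriekAdj (X ↘ Spec (CommRingCat.of k)) h).rightAdjointUniq adj).app OY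
  exact ⟨_, t, ht,
    ⟨(DerivedCategory.homologyFunctor X.Modules (-(1 : ℤ))).mapIso ((ObjectProperty.ι _).mapIso e)⟩⟩

variable {ω : X.Modules} {t : Coh.HH X ω 1 →ₗ[k] k}

theorem mono_unit (hω : Canon.IsRDualOver k X 1 ω t) (U : X.Opens)
    (hU : ∀ x : X, ¬ IsClosed ({x} : Set X) → x ∈ U) :
    Mono ((Scheme.Modules.restrictAdjunction U.ι).unit.app ω) := by
  haveI := Groth.L21.RR.isNoetherian_of_proper (X := X) k
  haveI : Coh.IsQCoh ω := hω.1
  haveI : Coh.IsQCoh (ω.restrict U.ι) := Scheme.Modules.isQuasicoherent_restrictFunctor _ ω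
  let η : ω ⟶ (Scheme.Modules.pushforward U.ι).obj (ω.restrict U.ι) :=
    (Scheme.Modules.restrictAdjunction U.ι).unit.app ω
  have hq : Coh.IsQCoh ((Scheme.Modules.pushforward U.ι).obj (ω.restrict U.ι)) :=
    Groth.L16.QcqsPush.isQCoh_push (M := ω.restrict U.ι) U.ι
  have hK : Coh.IsQCoh (kernel η) := Groth.L29.DC.isQCoh_kernel' η hω.1 hq
  have hinj : ∀ x : X, x ∈ U → ∀ v, st η x v = 0 → v = 0 := by
    intro x hxU v hv
    obtain ⟨W, hxW, s, rfl⟩ := TopCat.Presheaf.exists_germ_eq ω.presheaf v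
    rw [Groth.L21.RR.st_germ, ← map_zero (((Scheme.Modules.pushforward U.ι).obj
      (ω.restrict U.ι)).presheaf.germ W x hxW).hom] at hv
    obtain ⟨W', hxW', i₁, i₂, hW'⟩ := TopCat.Presheaf.germ_eq _ x hxW hxW _ _ hv
    have h1 : η.app W' (ω.presheaf.map i₁.op s) = 0 :=
      (congr(($(η.mapPresheaf.naturality i₁.op)) s)).trans (hW'.trans (map_zero _))
    rw [show η.app W' = ω.presheaf.map (homOfLE (U.ι.image_preimage_le W')).op from rfl] at h1
    have hxV : x ∈ U.ι ''ᵁ (U.ι ⁻¹ᵁ W') := ⟨⟨x, hxU⟩, hxW', rfl⟩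
    rw [← TopCat.Presheaf.germ_res_apply ω.presheaf i₁ x hxW' s,
      ← TopCat.Presheaf.germ_res_apply ω.presheaf (homOfLE (U.ι.image_preimage_le W')) x hxV]
    exact (congrArg _ h1).trans (map_zero _)
  have hs : SuppClosed (kernel η) := fun x hx => ⟨fun a b => by
    haveI : Mono ((Groth.L00.Stk.F X x).map (kernel.ι η)) := inferInstance
    have hz : ∀ a, st (kernel.ι η) x a = 0 := fun a => hinj x (hU x hx) _ (by
      rw [← Groth.L21.RR.st_comp, kernel.condition]
      simp [st]
      rfl)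
    exact (ModuleCat.mono_iff_injective _).1 ‹_› ((hz a).trans (hz b).symm)⟩
  exact (Preadditive.mono_of_kernel_zero (eq_zero_of_suppClosed hω hK hs (kernel.ι η)) : Mono η)

/-- Sections of `ω` are determined on a dense open. -/
theorem injective_restrict (hω : Canon.IsRDualOver k X 1 ω t) (U : X.Opens)
    (hU : ∀ x : X, ¬ IsClosed ({x} : Set X) → x ∈ U) (V : X.Opens) :
    Function.Injective (ω.presheaf.map (homOfLE (inf_le_left : V ⊓ U ≤ V)).op) := by
  haveI := mono_unit hω U hU
  let η : ω ⟶ (Scheme.Modules.pushforward U.ι).obj (ω.restrict U.ι) :=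
    (Scheme.Modules.restrictAdjunction U.ι).unit.app ω
  haveI : Mono η := ‹Mono _›
  intro s s' hss
  have hle : U.ι ''ᵁ (U.ι ⁻¹ᵁ V) ≤ V ⊓ U :=
    le_inf (U.ι.image_preimage_le V) fun _ ⟨y, _, hy⟩ => hy ▸ y.2
  refine Groth.L19.ProjBdl.injective_app_of_mono η V ?_
  rw [show η.app V = ω.presheaf.map (homOfLE (U.ι.image_preimage_le V)).op from rfl,
    show (homOfLE (U.ι.image_preimage_le V)).op = (homOfLE (inf_le_left : V ⊓ U ≤ V)).op ≫ (homOfLE hle).op from rfl,
    Functor.map_comp]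
  exact congrArg (ω.presheaf.map (homOfLE hle).op) hss

/-- The same for an isomorphic module. -/
theorem injective_restrict_of_iso (hω : Canon.IsRDualOver k X 1 ω t) {ω' : X.Modules} (e : ω ≅ ω') (U : X.Opens)
    (hU : ∀ x : X, ¬ IsClosed ({x} : Set X) → x ∈ U) (V : X.Opens) :
    Function.Injective (ω'.presheaf.map (homOfLE (inf_le_left : V ⊓ U ≤ V)).op) := by
  intro s s' hss
  have hn : ∀ r, ω.presheaf.map (homOfLE (inf_le_left : V ⊓ U ≤ V)).op (e.inv.app V r) =
      e.inv.app (V ⊓ U) (ω'.presheaf.map (homOfLE (inf_le_left : V ⊓ U ≤ V)).op r) := fun r =>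
    (congr(($(e.inv.mapPresheaf.naturality (homOfLE (inf_le_left : V ⊓ U ≤ V)).op)) r)).symm
  have h1 := injective_restrict hω U hU V ((hn s).trans ((congrArg _ hss).trans (hn s').symm))
  exact Groth.L19.ProjBdl.injective_app_of_mono e.inv V h1

end Groth.L21.CurveDual
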