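import Groth.Agent.L21.CurveDual.Euler

/-!
The dualizing module of a curve has full support.
-/

set_option autoImplicit false
set_option backward.isDefEq.respectTransparency false
set_option backward.isDefEq.respectTransparency.types false
set_option linter.style.haveILetI false
universe u

open CategoryTheory CategoryTheory.Limits AlgebraicGeometry Opposite

noncomputable section

namespace Groth.L21.CurveDual

open Groth.L21.RR (SuppClosed h st)
open Groth.L18.Ample (tw)
open Groth.L22.CurveDeg (phi)

variable {X : Scheme.{u}} {k : Type u} [Field k] [X.Over (Spec (CommRingCat.of k))]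
  [IsProper (X ↘ Spec (CommRingCat.of k))] {ω : X.Modules} {t : Coh.HH X ω 1 →ₗ[k] k}

/-- Twisting by `R` decreases by the multiplicity. -/
theorem phi_R (hd : topologicalKrullDim X ≤ 1) (P : Pol k X) {G : X.Modules} (hG : Coh.IsCoh G) :
    phi k P.R 1 G = -phi k P.Q 1 G := by
  haveI := Groth.L21.RR.isNoetherian_of_proper (X := X) k
  have hc := Groth.L03.Euler.isCoh_tensor P.invR hG
  have h1 := euler_tw (k := k) hd P.invQ hc 1
  have h2 : phi k P.Q 1 (CohB1.tensorMod G P.R) = phi k P.Q 1 G := Groth.L22.CurveDeg.phi_eq_of_len k hd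
    (Groth.L12.FinCov.isFinLocFreeOfRank_one_of_isInvertible P.invQ) hc hG
    fun y _ => Groth.L03.Euler.len_tensor P.invR _ y
  have h3 : Curv2.euler k X (tw (CohB1.tensorMod G P.R) P.Q 1) = Curv2.euler k X G :=
    Groth.L03.Euler.euler_iso (Groth.L22.EnrSev.cI P.e G)
  have h4 := euler_tw (k := k) hd P.invR hG 1
  rw [h3, h2] at h1
  change Curv2.euler k X (CohB1.tensorMod G P.R) = _ at h4
  push_cast at h1 h4
  linarith

omit [X.Over (Spec (CommRingCat.of k))] [IsProper (X ↘ Spec (CommRingCat.of k))] in
theorem support_tw {R : X.Modules} (hR : PicF.IsInvertible R) (G : X.Modules) :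
    ∀ n, CohB1.support (tw G R n) = CohB1.support G
  | 0 => rfl
  | n + 1 => (Groth.L03.Euler.support_tensor hR _).trans (support_tw hR G n)

/-- The stalks of `ω` at the non-closed points are non-zero. -/
theorem mem_support_of_not_isClosed (hd : topologicalKrullDim X ≤ 1) (hω : Canon.IsRDualOver k X 1 ω t)
    {η : X} (hη : ¬ IsClosed ({η} : Set X)) : η ∈ CohB1.support ω := by
  haveI := Groth.L21.RR.isNoetherian_of_proper (X := X) k
  obtain ⟨P, -⟩ := nonempty_pol k hd ∅ Set.finite_empty
  obtain ⟨Z, i, hi, hZ, hgen, hrange⟩ := Groth.L16.CohClosedPush.exists_integral η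
  haveI : IsLocallyNoetherian Z := LocallyOfFiniteType.isLocallyNoetherian i
  let G := (Coh.push i).obj (Coh.structureModule Z)
  have hG : Coh.IsCoh G := Groth.L16.CohClosedPush.isCoh_push i Groth.L16.CohClosedPush.isCoh_structure
  have hsG : CohB1.support G ⊆ closure {η} :=
    (Groth.L16.CohClosedPush.support_push_subset i _).trans hrange.le
  have hlen : Groth.L16.CohSupport.len η G = 1 := hgen ▸ Groth.L16.CohClosedPush.len_push_structure i
  have hpos : 0 < phi k P.Q 1 G := by
    by_contra hle
    haveI := suppClosed_of_phi_le k hd P.ample hG (not_lt.1 hle) η hη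
    rw [show Groth.L16.CohSupport.len η G = 0 from Module.length_eq_zero] at hlen
    exact zero_ne_one hlen
  let n : ℕ := (Curv2.euler k X G).toNat + 1
  have hneg : Curv2.euler k X (tw G P.R n) < 0 := by
    rw [euler_tw hd P.invR hG n, phi_R hd P hG]
    have h1 : (n : ℤ) * 1 ≤ (n : ℤ) * phi k P.Q 1 G :=
      mul_le_mul_of_nonneg_left (by omega) (Int.natCast_nonneg _)
    have h2 : Curv2.euler k X G < (n : ℤ) := by omega
    linarith
  have hc := Groth.L22.EnrSev.isCoh_tw hG P.invR n
  have h1 : ¬ Subsingleton (Coh.HH X (tw G P.R n) 1) := fun hs => by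
    rw [Groth.L21.RR.euler_eq k hd, Groth.L21.RR.h_eq_zero_of_subsingleton k hs] at hneg
    omega
  obtain ⟨φ, hφ⟩ := exists_ne_zero_of_h1 hω hc.1 h1
  by_contra hmem
  refine hφ (eq_zero_of_st hω hc.1 φ fun x hx v => ?_)
  by_cases hxη : x = η
  · subst hxη
    exact (not_not.1 hmem).elim _ _
  · have hxG : x ∉ CohB1.support (tw G P.R n) := fun hmem' => by
      rw [support_tw P.invR] at hmem'
      exact hxη (Groth.L22.CurveDeg.mem_closure_nonclosed hd hx (hsG hmem')).symm
    haveI : Subsingleton ((tw G P.R n).presheaf.stalk x) := not_not.1 hxG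
    rw [Subsingleton.elim v 0, map_zero]

end Groth.L21.CurveDual
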