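import Groth.Agent.L21.CurveDual.Duality
import Groth.Agent.L22.EnrSev.H0
import Groth.Agent.L22.EnrSev.Basic
import Groth.Agent.L22.CurveDeg.Devissage
import Groth.Agent.L21.Bundle.Hom
import Groth.Agent.L17.BC.TensorA
import Groth.Agent.L12.FinCov.Frame
import Groth.Agent.L18.AmpleOps
import Groth.Agent.L08.Cube.Inverse
import Groth.Agent.S1551

/-!
Twists by an ample module and its inverse on a proper curve; the dimension of twisted sections of `ω`.
-/

set_option autoImplicit false
set_option backward.isDefEq.respectTransparency false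
set_option backward.isDefEq.respectTransparency.types false
set_option linter.style.haveILetI false
universe u

open CategoryTheory CategoryTheory.Limits AlgebraicGeometry Opposite

noncomputable section

namespace Groth.L21.CurveDual

open Groth.L16.CohLinear (hmap)
open Groth.L21.RR (SuppClosed h)
open Groth.L18.Ample (tw)
open Groth.L00.Tensor (tensorIso tensorComm tensorLeftF tensorRightF)
open Groth.L22.CurveDeg (phi)

variable {X : Scheme.{u}}

/-- An ample invertible module with inverse and a section avoiding the given finite set of points. -/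
structure Pol (k : Type u) [Field k] (X : Scheme.{u}) [X.Over (Spec (CommRingCat.of k))] where
  Q : X.Modules
  R : X.Modules
  e : CohB1.tensorMod R Q ≅ Coh.structureModule X
  ample : CohB1.IsAmple Q
  invQ : PicF.IsInvertible Q
  invR : PicF.IsInvertible R
  φ : Coh.structureModule X ⟶ Q
  affine : IsAffineOpen (CohB1.genLocus Q φ)
  ass : ∀ x : X, Curv2.IsAssPoint (Coh.structureModule X) x → x ∈ CohB1.genLocus Q φ
  generic : ∀ x : X, ¬ IsClosed ({x} : Set X) → x ∈ CohB1.genLocus Q φ

variable (k : Type u) [Field k] [X.Over (Spec (CommRingCat.of k))] [IsProper (X ↘ Spec (CommRingCat.of k))]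

theorem nonempty_pol (hd : topologicalKrullDim X ≤ 1) (E : Set X) (hE : E.Finite) :
    ∃ P : Pol k X, E ⊆ CohB1.genLocus P.Q P.φ := by
  haveI := Groth.L21.RR.isNoetherian_of_proper (X := X) k
  haveI : X.IsSeparated := ⟨by rw [← Limits.terminal.comp_from (X ↘ Spec (CommRingCat.of k))]; infer_instance⟩
  obtain ⟨L, hL⟩ := Groth.Agent.S1551.aux X hd
  haveI : Coh.IsQCoh (Coh.structureModule X) := Groth.L16.CohClosedPush.isCoh_structure.1
  have hfin : (E ∪ {x | Curv2.IsAssPoint (Coh.structureModule X) x} ∪ {x : X | ¬ IsClosed ({x} : Set X)}).Finite :=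
    (hE.union (Groth.L22.EnrSev.finite_setOf_isAssPoint Groth.L16.CohClosedPush.isCoh_structure.2)).union
      (Groth.L22.CurveDeg.finite_nonclosed hd)
  obtain ⟨n, s, hs, -, haff⟩ := Groth.L18.Ample.exists_pow_genLocus_of_isAmple hL _ hfin ⊤ (fun _ _ => trivial)
  have hQ := Groth.L18.Ample.isInvertible_tensorPow hL.1 (n + 1)
  obtain ⟨R, hR, ⟨e⟩⟩ := Groth.L08.Cube.exists_inverse hQ
  exact ⟨⟨_, R, tensorComm _ _ ≪≫ e, (Groth.L18.Ample.isAmple_pow_iff hL.1 (Nat.succ_pos n)).1 hL, hQ, hR, s, haff,
    fun x hx => hs (Or.inl (Or.inr hx)), fun x hx => hs (Or.inr hx)⟩, fun x hx => hs (Or.inl (Or.inl hx))⟩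

omit [IsProper (X ↘ Spec (CommRingCat.of k))] in
/-- Twisting sends scalar multiples to scalar multiples. -/
theorem twist_map_smul (L : X.Modules) {A B : X.Modules} (c : k) (g : A ⟶ B) :
    (tensorRightF L).map (c • g) = c • (tensorRightF L).map g := by
  rw [KLin.smul_def, KLin.smul_def, Functor.map_comp]
  exact congrArg (· ≫ (tensorRightF L).map g) (Groth.L17.BC.TensorA.tensor_smulModΓ L A _)

variable {k}

/-- The equivalence `- ⊗ R` with inverse `- ⊗ Q`. -/
def Pol.E (P : Pol k X) : X.Modules ≌ X.Modules :=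
  Groth.L21.Bundle.twistEquiv (L := P.R) (L' := P.Q) (tensorComm _ _ ≪≫ P.e)

omit [IsProper (X ↘ Spec (CommRingCat.of k))] in
/-- The twist adjunction, linearly. -/
def homTwist (P : Pol k X) (A B : X.Modules) :
    (CohB1.tensorMod A P.R ⟶ B) ≃ₗ[k] (A ⟶ CohB1.tensorMod B P.Q) :=
  { P.E.toAdjunction.homEquiv A B with
    map_add' := fun a b => by
      haveI : P.E.inverse.Additive := Functor.additive_of_preserves_binary_products _
      simp [Adjunction.homEquiv_unit, Functor.map_add]
    map_smul' := fun c a => by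
      simp only [Equiv.toFun_as_coe, Adjunction.homEquiv_unit, RingHom.id_apply]
      have h1 : P.E.inverse.map (c • a) = c • P.E.inverse.map a := twist_map_smul k P.Q c a
      rw [h1]
      exact Linear.comp_smul _ _ _ _ _ _ }

omit [IsProper (X ↘ Spec (CommRingCat.of k))] in
theorem tw_succ' (B Q : X.Modules) : ∀ n, tw (CohB1.tensorMod B Q) Q n = tw B Q (n + 1)
  | 0 => rfl
  | n + 1 => congrArg (fun M => CohB1.tensorMod M Q) (tw_succ' B Q n)

omit [IsProper (X ↘ Spec (CommRingCat.of k))] in
theorem finrank_hom_tw (P : Pol k X) (A : X.Modules) : ∀ (n : ℕ) (B : X.Modules),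
    Module.finrank k (tw A P.R n ⟶ B) = Module.finrank k (A ⟶ tw B P.Q n)
  | 0, _ => rfl
  | n + 1, B => by
    rw [← tw_succ' B P.Q n, ← finrank_hom_tw P A n]
    exact (homTwist P _ B).finrank_eq

variable {ω : X.Modules} {t : Coh.HH X ω 1 →ₗ[k] k}

theorem h0_eq_finrank_hom (M : X.Modules) : h k 0 M = Module.finrank k (Coh.structureModule X ⟶ M) :=
  (LinearEquiv.ofBijective _ (homH0_bijective (k := k) M)).finrank_eq.symm

/-- `H⁰(ω ⊗ Qⁿ) = H¹(Rⁿ)^∨`. -/
theorem h0_tw_dual (hω : Canon.IsRDualOver k X 1 ω t) (P : Pol k X) (n : ℕ) :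
    h k 0 (tw ω P.Q n) = h k 1 (tw (Coh.structureModule X) P.R n) := by
  haveI := Groth.L21.RR.isNoetherian_of_proper (X := X) k
  rw [h0_eq_finrank_hom, ← finrank_hom_tw]
  exact finrank_hom hω _ (Groth.L22.EnrSev.isCoh_tw Groth.L16.CohClosedPush.isCoh_structure P.invR n).1

theorem finite_h0_tw_dual (hω : Canon.IsRDualOver k X 1 ω t) (P : Pol k X) : ∀ (n : ℕ) (A : X.Modules),
    Coh.IsCoh A → Module.Finite k (A ⟶ tw ω P.Q n) := by
  haveI := Groth.L21.RR.isNoetherian_of_proper (X := X) k
  suffices H : ∀ (n : ℕ) (B : X.Modules), (∀ A, Coh.IsCoh A → Module.Finite k (A ⟶ B)) →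
      ∀ A, Coh.IsCoh A → Module.Finite k (A ⟶ tw B P.Q n) from
    fun n A hA => H n ω (fun A hA => finite_hom hω hA) A hA
  intro n
  induction n with
  | zero => exact fun B hB => hB
  | succ n ih =>
    intro B hB A hA
    rw [← tw_succ' B P.Q n]
    refine ih _ (fun A' hA' => ?_) A hA
    haveI := hB _ (Groth.L03.Euler.isCoh_tensor P.invR hA')
    exact Module.Finite.equiv (homTwist P A' B)

omit [IsProper (X ↘ Spec (CommRingCat.of k))] in
theorem mono_tw_map {L : X.Modules} (hL : PicF.IsInvertible L) : ∀ (n : ℕ) {A B : X.Modules} (i : A ⟶ B),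
    Mono i → ∃ j : tw A L n ⟶ tw B L n, Mono j
  | 0, _, _, i, hi => ⟨i, hi⟩
  | n + 1, _, _, i, hi => by
    obtain ⟨j, hj⟩ := mono_tw_map hL n i hi
    have hT := Groth.L03.Euler.shortExact_tensor hL (ShortComplex.ShortExact.mk (ShortComplex.exact_cokernel j) :
      (ShortComplex.mk j (cokernel.π j) (cokernel.condition _)).ShortExact)
    exact ⟨_, hT.mono_f⟩

/-- The linear part of the twisted Euler characteristic. -/
theorem euler_tw (hd : topologicalKrullDim X ≤ 1) {L : X.Modules} (hL : PicF.IsInvertible L)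
    {A : X.Modules} (hA : Coh.IsCoh A) : ∀ n : ℕ,
    Curv2.euler k X (tw A L n) = Curv2.euler k X A + n * phi k L 1 A
  | 0 => by simp [tw]
  | n + 1 => by
    haveI := Groth.L21.RR.isNoetherian_of_proper (X := X) k
    have hlen : ∀ m (y : X), Groth.L16.CohSupport.len y (tw A L m) = Groth.L16.CohSupport.len y A := by
      intro m
      induction m with
      | zero => exact fun _ => rfl
      | succ m ih => exact fun y => (Groth.L03.Euler.len_tensor hL _ y).trans (ih y)
    have h1 : phi k L 1 (tw A L n) = phi k L 1 A := Groth.L22.CurveDeg.phi_eq_of_len k hd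
      (Groth.L12.FinCov.isFinLocFreeOfRank_one_of_isInvertible hL) (Groth.L22.EnrSev.isCoh_tw hA hL n) hA
      fun y _ => hlen n y
    have h2 : phi k L 1 (tw A L n) = Curv2.euler k X (tw A L (n + 1)) - Curv2.euler k X (tw A L n) := by
      rw [phi, Nat.cast_one, one_mul, Groth.L03.Euler.euler_iso (tensorComm L (tw A L n))]
      rfl
    rw [euler_tw hd hL hA n] at h2
    push_cast
    rw [h1] at h2
    linarith

/-- `h¹(Rⁿ)` grows at most linearly. -/
theorem h1_tw_le (hd : topologicalKrullDim X ≤ 1) (P : Pol k X) (n : ℕ) :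
    (h k 1 (tw (Coh.structureModule X) P.R n) : ℤ) ≤ h k 0 (Coh.structureModule X) -
      Curv2.euler k X (Coh.structureModule X) - n * phi k P.R 1 (Coh.structureModule X) := by
  haveI := Groth.L21.RR.isNoetherian_of_proper (X := X) k
  have hc := Groth.L22.EnrSev.isCoh_tw (F := Coh.structureModule X) Groth.L16.CohClosedPush.isCoh_structure P.invR
  haveI : ∀ j, Coh.IsQCoh (tw (Coh.structureModule X) P.R j) := fun j => (hc j).1
  haveI : ∀ j, Mono (Groth.L22.EnrSev.dn P.e (Coh.structureModule X) P.φ j) := fun j =>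
    Groth.L22.EnrSev.mono_of_injective_ass _ fun x hx =>
      (Groth.L22.EnrSev.bijective_down P.e (tw (Coh.structureModule X) P.R j) P.invQ
        (P.ass x ((Groth.L22.EnrSev.isAssPoint_tw P.invR x (j + 1)).1 hx))).injective
  have hle : ∀ j, h k 0 (tw (Coh.structureModule X) P.R j) ≤ h k 0 (Coh.structureModule X) := by
    intro j
    induction j with
    | zero => exact le_rfl
    | succ j ih =>
      haveI := Groth.L21.RR.finite_HH' (X := X) k (hc j) 0
      exact (LinearMap.finrank_le_finrank_of_injective (f := Groth.L21.RR.hk k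
        (Groth.L22.EnrSev.dn P.e (Coh.structureModule X) P.φ j) 0) (Groth.L21.RR.injective_hmap_zero _)).trans ih
  have h1 := Groth.L21.RR.euler_eq k hd (tw (Coh.structureModule X) P.R n)
  rw [euler_tw hd P.invR Groth.L16.CohClosedPush.isCoh_structure n] at h1
  have h2 : (h k 0 (tw (Coh.structureModule X) P.R n) : ℤ) ≤ h k 0 (Coh.structureModule X) := by exact_mod_cast hle n
  linarith

end Groth.L21.CurveDual
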