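import Groth.Prelude.Def_Canon
import Groth.Agent.L21.CurveDual.Trace
import Groth.Agent.L21.RR.Coh
import Groth.Agent.L21.RR.Sections
import Groth.Agent.L21.RR.Finite
import Groth.Agent.L12.GenusZero.Basic

/-!
First consequences of a duality pair on a proper curve.
-/

set_option autoImplicit false
set_option backward.isDefEq.respectTransparency false
set_option backward.isDefEq.respectTransparency.types false
set_option linter.style.haveILetI false
universe u

open CategoryTheory CategoryTheory.Limits AlgebraicGeometry Opposite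
attribute [local instance] HasDerivedCategory.standard

noncomputable section

namespace Groth.L21.CurveDual

open Groth.L16.CohLinear (hmap hmap_comp hmap_id)
open Groth.L21.RR (SuppClosed h st e0)

variable {X : Scheme.{u}} (k : Type u) [Field k] [X.Over (Spec (CommRingCat.of k))]

/-- The dualizing module with its trace is a dualizing pair. -/
theorem exists_isRDual [IsProper (X ↘ Spec (CommRingCat.of k))] (hd : topologicalKrullDim X ≤ 1)
    [DCoh.HasRpush (X ↘ Spec (CommRingCat.of k))] (h : DCoh.RpushPreservesQCoh (X ↘ Spec (CommRingCat.of k)))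
    [DCoh.HasShriek (X ↘ Spec (CommRingCat.of k)) h] (OY : DCoh.DQCoh (Spec (CommRingCat.of k)))
    (hOY : Nonempty (OY.obj ≅ DCoh.inD (Spec (CommRingCat.of k)) (Coh.structureModule (Spec (CommRingCat.of k))))) :
    ∃ t, Canon.IsRDualOver k X 1 (DCoh.dualizingMod (X ↘ Spec (CommRingCat.of k)) h OY 1) t := by
  obtain ⟨hq, t, ht⟩ := exists_trace k hd h OY hOY
  refine ⟨t, hq, fun F hF => ⟨fun a b hab => ?_, fun l => ?_⟩⟩
  · exact (ht F hF (Canon.dualityMap k X 1 _ t F b)).unique (fun z => LinearMap.congr_fun hab z) fun _ => rfl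
  · obtain ⟨φ, hφ, -⟩ := ht F hF l
    exact ⟨φ, LinearMap.ext hφ⟩

variable {k} {ω : X.Modules} {t : Coh.HH X ω 1 →ₗ[k] k}

theorem dualityMap_apply (F : X.Modules) (φ : F ⟶ ω) (z : Coh.HH X F 1) :
    Canon.dualityMap k X 1 ω t F φ z = t (hmap φ 1 z) := rfl

theorem dualityMap_smul (F : X.Modules) (c : k) (φ : F ⟶ ω) :
    Canon.dualityMap k X 1 ω t F (c • φ) = c • Canon.dualityMap k X 1 ω t F φ := by
  refine LinearMap.ext fun z => ?_
  have h1 : hmap (c • φ) 1 z = c • hmap φ 1 z := by
    rw [show c • φ = φ ≫ (c • 𝟙 ω) by rw [Linear.comp_smul, Category.comp_id], hmap_comp, hmap_smul_id]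
  change t (hmap (c • φ) 1 z) = c * t (hmap φ 1 z)
  rw [h1, map_smul, smul_eq_mul]

/-- `Hom(F, ω) = H¹(F)^∨`. -/
def homEquiv (hω : Canon.IsRDualOver k X 1 ω t) (F : X.Modules) (hF : Coh.IsQCoh F) :
    (F ⟶ ω) ≃ₗ[k] Module.Dual k (Coh.HH X F 1) :=
  LinearEquiv.ofBijective
    { toFun := Canon.dualityMap k X 1 ω t F
      map_add' := fun a b => LinearMap.ext fun z => by
        change t (hmap (a + b) 1 z) = t (hmap a 1 z) + t (hmap b 1 z)
        rw [Groth.L21.RR.hmap_add, map_add]
      map_smul' := fun c a => dualityMap_smul F c a }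
    (hω.2 F hF)

theorem homEquiv_apply (hω : Canon.IsRDualOver k X 1 ω t) (F : X.Modules) (hF : Coh.IsQCoh F) (φ : F ⟶ ω)
    (z : Coh.HH X F 1) : homEquiv hω F hF φ z = t (hmap φ 1 z) := rfl

theorem finrank_hom (hω : Canon.IsRDualOver k X 1 ω t) (F : X.Modules) (hF : Coh.IsQCoh F) :
    Module.finrank k (F ⟶ ω) = h k 1 F :=
  (homEquiv hω F hF).finrank_eq.trans Subspace.dual_finrank_eq

theorem exists_ne_zero_of_h1 (hω : Canon.IsRDualOver k X 1 ω t) {F : X.Modules} (hF : Coh.IsQCoh F)
    (h1 : ¬ Subsingleton (Coh.HH X F 1)) : ∃ φ : F ⟶ ω, φ ≠ 0 := by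
  by_contra hh
  push Not at hh
  haveI : Subsingleton (F ⟶ ω) := ⟨fun a b => (hh a).trans (hh b).symm⟩
  haveI := (homEquiv hω F hF).symm.toEquiv.subsingleton
  exact h1 ⟨fun x y => by
    haveI : Module.Free k (Coh.HH X F 1) := Module.Free.of_divisionRing k _
    haveI : Module.Projective k (Coh.HH X F 1) := Module.Projective.of_free
    rw [← sub_eq_zero, ← Module.forall_dual_apply_eq_zero_iff k]
    exact fun l => by rw [Subsingleton.elim l 0]; rfl⟩

theorem subsingleton_h1_iff (hω : Canon.IsRDualOver k X 1 ω t) {F : X.Modules} (hF : Coh.IsQCoh F) :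
    Subsingleton (Coh.HH X F 1) ↔ ∀ φ : F ⟶ ω, φ = 0 := by
  refine ⟨fun hs φ => (homEquiv hω F hF).injective (LinearMap.ext fun z => ?_), fun hh => ?_⟩
  · rw [hs.elim z 0, map_zero, map_zero]
  · by_contra hc
    obtain ⟨φ, hφ⟩ := exists_ne_zero_of_h1 hω hF hc
    exact hφ (hh φ)

variable [IsProper (X ↘ Spec (CommRingCat.of k))]

/-- No maps into `ω` from modules supported at closed points. -/
theorem eq_zero_of_suppClosed (hω : Canon.IsRDualOver k X 1 ω t) {F : X.Modules} (hF : Coh.IsQCoh F)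
    (hs : SuppClosed F) (φ : F ⟶ ω) : φ = 0 := by
  haveI := Groth.L21.RR.isNoetherian_of_proper (X := X) k
  exact (subsingleton_h1_iff hω hF).1 (Groth.L21.RR.subsingleton_HH_of_suppClosed hs 0) φ

/-- A map into `ω` vanishing at all non-closed points is zero. -/
theorem eq_zero_of_st (hω : Canon.IsRDualOver k X 1 ω t) {F : X.Modules} (hF : Coh.IsQCoh F) (φ : F ⟶ ω)
    (h0 : ∀ x : X, ¬ IsClosed ({x} : Set X) → ∀ v, st φ x v = 0) : φ = 0 := by
  have hs : SuppClosed (Abelian.image φ) := fun x hx => by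
    refine ⟨fun a b => ?_⟩
    haveI : Mono ((Groth.L00.Stk.F X x).map (Abelian.image.ι φ)) := inferInstance
    haveI : Epi ((Groth.L00.Stk.F X x).map (Abelian.factorThruImage φ)) := inferInstance
    have hz : ∀ a, st (Abelian.image.ι φ) x a = 0 := fun a => by
      obtain ⟨v, hv⟩ := (ModuleCat.epi_iff_surjective _).1 this a
      have h1 := h0 x hx v
      rw [st, ← Abelian.image.fac φ, Functor.map_comp] at h1
      rw [← hv]
      exact h1
    exact (ModuleCat.mono_iff_injective _).1 ‹_› ((hz a).trans (hz b).symm)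
  rw [← Abelian.image.fac φ, eq_zero_of_suppClosed hω (Groth.L12.GenusZero.isQCoh_image φ hF hω.1) hs
    (Abelian.image.ι φ), comp_zero]

theorem finite_hom (hω : Canon.IsRDualOver k X 1 ω t) {F : X.Modules} (hF : Coh.IsCoh F) :
    Module.Finite k (F ⟶ ω) :=
  haveI := Groth.L21.RR.finite_HH' (X := X) k hF 1
  Module.Finite.equiv (homEquiv hω F hF.1).symm

/-- Sections of a module as maps out of the structure module. -/
def homH0 (M : X.Modules) : (Coh.structureModule X ⟶ M) →ₗ[k] Coh.HH X M 0 where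
  toFun φ := hmap φ 0 ((e0 (Coh.structureModule X)).symm (show Γ(X, ⊤) from 1))
  map_add' a b := Groth.L21.RR.hmap_add a b 0 _
  map_smul' c a := by
    rw [show c • a = a ≫ (c • 𝟙 M) by rw [Linear.comp_smul, Category.comp_id], hmap_comp, hmap_smul_id]
    rfl

omit [IsProper (X ↘ Spec (CommRingCat.of k))] in
theorem homH0_bijective (M : X.Modules) : Function.Bijective (homH0 (k := k) M) := by
  have key : ∀ φ : Coh.structureModule X ⟶ M, e0 M (homH0 (k := k) M φ) = φ.app ⊤ (show Γ(X, ⊤) from 1) := by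
    intro φ
    change e0 M (hmap φ 0 _) = _
    rw [Groth.L21.RR.e0_hmap, AddEquiv.apply_symm_apply]
  refine ⟨fun a b hab => Groth.L21.RR.hom_ext_one ?_, fun y => ?_⟩
  · exact ((key a).symm.trans (congrArg (e0 M) hab)).trans (key b)
  · refine ⟨Groth.L16.homOfSection M (e0 M y), (e0 M).injective ((key _).trans ?_)⟩
    exact Groth.L21.RR.app_homOfSection_one _

/-- `H⁰(ω) = H¹(O)^∨`. -/
theorem h0_eq (hω : Canon.IsRDualOver k X 1 ω t) : h k 0 ω = h k 1 (Coh.structureModule X) := by
  haveI := Groth.L21.RR.isNoetherian_of_proper (X := X) k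
  rw [← finrank_hom hω _ Groth.L16.CohClosedPush.isCoh_structure.1]
  exact (LinearEquiv.ofBijective _ (homH0_bijective (k := k) ω)).finrank_eq.symm

end Groth.L21.CurveDual
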