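import Groth.Agent.L10.InjTAR
import Groth.Agent.L16.CohLinear
import Groth.Agent.L00.SheafHom
import Mathlib.Algebra.Homology.DerivedCategory.Ext.Map

/-!
`Ext¹(O, F) = H¹(X, F)`, naturally in `F`.
-/

set_option autoImplicit false
set_option backward.defeqAttrib.useBackward true
set_option backward.isDefEq.respectTransparency false
set_option backward.isDefEq.respectTransparency.types false
universe u

open CategoryTheory CategoryTheory.Limits CategoryTheory.Abelian AlgebraicGeometry Opposite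

noncomputable section

namespace Groth.L21.CurveDual

open Groth.L16.CohLinear (tF tm hmap)
open Groth.L10.InjTAR (homUnitEquiv homUnitEquiv_comp)

variable {X : Scheme.{u}} [HasExt.{u} X.Modules]

/-- The constant sheaf `ℤ`. -/
abbrev ZS (X : Scheme.{u}) : Sheaf (Opens.grothendieckTopology X) AddCommGrpCat.{u} :=
  (constantSheaf (Opens.grothendieckTopology X) AddCommGrpCat.{u}).obj (AddCommGrpCat.of (ULift.{u} ℤ))

/-- The class `1 : ℤ ⟶ O`. -/
def unitZ (X : Scheme.{u}) : ZS X ⟶ (tF X).obj (Coh.structureModule X) :=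
  homUnitEquiv X.ringCatSheaf (Coh.structureModule X) (𝟙 _)

theorem unitZ_comp {F : X.Modules} (φ : Coh.structureModule X ⟶ F) :
    unitZ X ≫ tm φ = homUnitEquiv X.ringCatSheaf F φ := by
  rw [unitZ]
  refine (homUnitEquiv_comp X.ringCatSheaf (G := Coh.structureModule X) (G' := F) (𝟙 _) φ).symm.trans ?_
  exact congrArg _ (Category.id_comp φ)

/-- The comparison map. -/
def ev (F : X.Modules) (n : ℕ) : Ext (Coh.structureModule X) F n →+ Coh.HH X F n where
  toFun x := (Ext.mk₀ (unitZ X)).comp (x.mapExactFunctor (tF X)) (zero_add n)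
  map_zero' := by rw [Ext.mapExactFunctor_zero, Ext.comp_zero]
  map_add' a b := by rw [Ext.mapExactFunctor_add, Ext.comp_add]

theorem ev_natural {F G : X.Modules} (g : F ⟶ G) (n : ℕ) (x : Ext (Coh.structureModule X) F n) :
    ev G n (x.comp (Ext.mk₀ g) (add_zero n)) = hmap g n (ev F n x) := by
  change (Ext.mk₀ (unitZ X)).comp ((x.comp (Ext.mk₀ g) (add_zero n)).mapExactFunctor (tF X)) (zero_add n) =
    ((Ext.mk₀ (unitZ X)).comp (x.mapExactFunctor (tF X)) (zero_add n)).comp (Ext.mk₀ (tm g)) (add_zero n)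
  rw [Ext.mapExactFunctor_comp, Ext.mapExactFunctor_mk₀, Ext.comp_assoc_of_third_deg_zero]

theorem ev_mk₀ {F : X.Modules} (φ : Coh.structureModule X ⟶ F) :
    ev F 0 (Ext.mk₀ φ) = Ext.mk₀ (homUnitEquiv X.ringCatSheaf F φ) := by
  change (Ext.mk₀ (unitZ X)).comp ((Ext.mk₀ φ).mapExactFunctor (tF X)) (zero_add 0) = _
  rw [Ext.mapExactFunctor_mk₀, Ext.mk₀_comp_mk₀]
  exact congrArg _ (unitZ_comp φ)

theorem ev_bijective (F : X.Modules) : Function.Bijective (ev F 1) := by
  haveI := Groth.L00.Tensor.grothendieckAbelian_modules X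
  let S := ShortComplex.mk (Injective.ι F) (cokernel.π (Injective.ι F)) (cokernel.condition _)
  have hS : S.ShortExact := { exact := ShortComplex.exact_of_g_is_cokernel _ (cokernelIsCokernel _) }
  haveI : Injective S.X₂ := inferInstanceAs (Injective (Injective.under F))
  have hS' := hS.map_of_exact (tF X)
  haveI hacy : Subsingleton (Ext (ZS X) (S.map (tF X)).X₂ 1) :=
    @Equiv.subsingleton _ _ ((Abelian.extFunctor 1).mapIso (Groth.L10.InjTAR.frPtIso (J := Opens.grothendieckTopology X)).op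
      |>.app _ |>.addCommGroupIsoToAddEquiv).toEquiv
      (Groth.L10.InjTAR.isTotallyAcyclic X.ringCatSheaf S.X₂ (Groth.L10.InjTAR.pt (Opens.grothendieckTopology X)) 0)
  have hδ : ∀ φ : Coh.structureModule X ⟶ S.X₃, ev F 1 ((Ext.mk₀ φ).comp hS.extClass (zero_add 1)) =
      (Ext.mk₀ (homUnitEquiv X.ringCatSheaf S.X₃ φ)).comp hS'.extClass (zero_add 1) := fun φ => by
    change (Ext.mk₀ (unitZ X)).comp (((Ext.mk₀ φ).comp hS.extClass (zero_add 1)).mapExactFunctor (tF X)) (zero_add 1) = _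
    rw [Ext.mapExactFunctor_comp, Ext.mapExactFunctor_extClass, ← Ext.comp_assoc_of_second_deg_zero,
      Ext.mapExactFunctor_mk₀, Ext.mk₀_comp_mk₀]
    exact congrArg (fun t => (Ext.mk₀ t).comp hS'.extClass (zero_add 1)) (unitZ_comp φ)
  have hex : ∀ x : Ext (Coh.structureModule X) F 1, ∃ φ : Coh.structureModule X ⟶ S.X₃,
      x = (Ext.mk₀ φ).comp hS.extClass (zero_add 1) := fun x => by
    obtain ⟨z, hz⟩ := Ext.covariant_sequence_exact₁ _ hS x (Ext.eq_zero_of_injective _) rfl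
    obtain ⟨φ, rfl⟩ := (Ext.mk₀_bijective _ _).2 z
    exact ⟨φ, hz.symm⟩
  refine ⟨(injective_iff_map_eq_zero _).2 fun x hx => ?_, fun y => ?_⟩
  · obtain ⟨φ, rfl⟩ := hex x
    rw [hδ] at hx
    obtain ⟨w, hw⟩ := Ext.covariant_sequence_exact₃ _ hS' (Ext.mk₀ (homUnitEquiv X.ringCatSheaf S.X₃ φ)) rfl hx
    obtain ⟨w, rfl⟩ := (Ext.mk₀_bijective _ _).2 w
    obtain ⟨ψ, rfl⟩ := (homUnitEquiv X.ringCatSheaf S.X₂).surjective w
    rw [Ext.mk₀_comp_mk₀] at hw
    have h1 : φ = ψ ≫ S.g := (homUnitEquiv X.ringCatSheaf S.X₃).injective (by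
      rw [homUnitEquiv_comp]
      exact ((Ext.mk₀_bijective _ _).1 hw).symm)
    rw [h1, ← Ext.mk₀_comp_mk₀, Ext.comp_assoc_of_second_deg_zero, hS.comp_extClass, Ext.comp_zero]
  · obtain ⟨z, hz⟩ := Ext.covariant_sequence_exact₁ _ hS' y (Subsingleton.elim _ _) rfl
    obtain ⟨w, rfl⟩ := (Ext.mk₀_bijective _ _).2 z
    obtain ⟨φ, rfl⟩ := (homUnitEquiv X.ringCatSheaf S.X₃).surjective w
    exact ⟨_, (hδ φ).trans hz⟩

end Groth.L21.CurveDual
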