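import Groth.Agent.L21.CurveDual.Euler
import Groth.Agent.L21.RedCurve.Basic
import Groth.Agent.L20.QfCurve
import Groth.Agent.L22.CurveDeg.Maps

/-!
Reduced connected curves.
-/

set_option autoImplicit false
set_option backward.isDefEq.respectTransparency false
set_option backward.isDefEq.respectTransparency.types false
set_option linter.style.haveILetI false
universe u

open CategoryTheory CategoryTheory.Limits AlgebraicGeometry Opposite

noncomputable section

namespace Groth.L21.CurveDual

open Groth.L21.RR (SuppClosed h st)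

variable {X : Scheme.{u}}

/-- A connected scheme of dimension one has no closed point without proper generization. -/
theorem exists_nonclosed_gen [IsLocallyNoetherian X] [ConnectedSpace X] (hdim : topologicalKrullDim X = 1)
    (z : X) : ∃ w, ¬ IsClosed ({w} : Set X) ∧ w ⤳ z := by
  by_contra hh
  push Not at hh
  have hz : IsClosed ({z} : Set X) := by
    by_contra hc
    exact hh z hc specializes_rfl
  have hgen : ∀ y, y ⤳ z → y = z := fun y hy => by
    by_contra hne
    by_cases hc : IsClosed ({y} : Set X)
    · exact hne (hy.mem_closed hc rfl).symm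
    · exact hh y hc hy
  have ho := Groth.L20.QfCurve.isOpen_singleton hz hgen
  have huniv : ({z} : Set X) = Set.univ := IsClopen.eq_univ ⟨hz, ho⟩ ⟨z, rfl⟩
  haveI : Subsingleton X := ⟨fun a b => by
    have ha : a ∈ ({z} : Set X) := huniv ▸ Set.mem_univ a
    have hb : b ∈ ({z} : Set X) := huniv ▸ Set.mem_univ b
    rw [Set.mem_singleton_iff.1 ha, Set.mem_singleton_iff.1 hb]⟩
  haveI : DiscreteTopology X := Subsingleton.discreteTopology
  have := topologicalKrullDim_zero_of_discreteTopology X
  rw [hdim] at this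
  exact absurd this (by decide)

variable {k : Type u} [Field k] [X.Over (Spec (CommRingCat.of k))] [IsProper (X ↘ Spec (CommRingCat.of k))]
  {ω : X.Modules} {t : Coh.HH X ω 1 →ₗ[k] k}

/-- `H¹(L) = 0` for an effective non-trivial `L` when `ω ≅ O`. -/
theorem h1_zero_of_effective [AlgebraicGeometry.IsReduced X] [ConnectedSpace X] (hdim : topologicalKrullDim X = 1)
    (h0 : h k 0 (Coh.structureModule X) = 1) (hω : Canon.IsRDualOver k X 1 ω t)
    (eω : ω ≅ Coh.structureModule X) {L : X.Modules} (hL : PicF.IsInvertible L)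
    (s : Coh.structureModule X ⟶ L) [Mono s] (hdeg : 0 < Curv2.deg k X L 1) :
    Subsingleton (Coh.HH X L 1) := by
  haveI := Groth.L21.RR.isNoetherian_of_proper (X := X) k
  by_contra hL1
  obtain ⟨φ, hφ⟩ := exists_ne_zero_of_h1 hω (Groth.L16.ProperFinite.isCoh_of_isInvertible hL).1 hL1
  let ψ : L ⟶ Coh.structureModule X := φ ≫ eω.hom
  have hψ : ψ ≠ 0 := fun hz => hφ (by rw [← cancel_mono eω.hom, zero_comp]; exact hz)
  have hEnd : Module.finrank k (Coh.structureModule X ⟶ Coh.structureModule X) = 1 := by
    rw [← h0_eq_finrank_hom]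
    exact h0
  have h1 : (𝟙 (Coh.structureModule X) : _ ⟶ _) ≠ 0 := fun hz => by
    haveI : Subsingleton (Coh.structureModule X ⟶ Coh.structureModule X) :=
      ⟨fun a b => by rw [← Category.id_comp a, ← Category.id_comp b, hz, zero_comp, zero_comp]⟩
    rw [Module.finrank_zero_of_subsingleton] at hEnd
    exact zero_ne_one hEnd
  obtain ⟨c, hc⟩ := (finrank_eq_one_iff_of_nonzero' _ h1).1 hEnd (s ≫ ψ)
  rcases eq_or_ne c 0 with rfl | hc0
  · refine hψ (Groth.L21.RedCurve.hom_eq_zero (exists_nonclosed_gen hdim)
      (Groth.L18.Ample.isInvertible_structureModule X) ψ fun w hw v => ?_)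
    have hinj : Function.Injective (st s w) := (Groth.L21.Mod.mono_iff_stalk_injective s).1 inferInstance w
    have hzero : s ≫ ψ = 0 := by rw [← hc, zero_smul]
    letI := (Groth.L21.RedCurve.stalk_isField hdim.le hw).toField
    obtain ⟨g⟩ := Groth.L03.Euler.exists_stalk_equiv hL w
    obtain ⟨g'⟩ := Groth.L03.Euler.exists_stalk_equiv (Groth.L18.Ample.isInvertible_structureModule X) w
    have hsurj : Function.Surjective (st s w) := by
      have h2 : Function.Injective (g.symm.toLinearMap ∘ₗ st s w ∘ₗ g'.toLinearMap) :=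
        g.symm.injective.comp (hinj.comp g'.injective)
      have h3 : Function.Surjective (g.symm.toLinearMap ∘ₗ st s w ∘ₗ g'.toLinearMap) := by
        rw [← LinearMap.range_eq_top]
        refine (IsSimpleOrder.eq_bot_or_eq_top _).resolve_left fun hbot => ?_
        exact one_ne_zero (h2 ((LinearMap.congr_fun (LinearMap.range_eq_bot.1 hbot) 1).trans (map_zero _).symm))
      intro y
      obtain ⟨a, ha⟩ := h3 (g.symm y)
      exact ⟨g' a, g.symm.injective ha⟩
    obtain ⟨u, rfl⟩ := hsurj v
    rw [← Groth.L21.RR.st_comp, hzero]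
    simp [st]
    rfl
  · have hr : s ≫ (c⁻¹ • ψ) = 𝟙 _ := by rw [Linear.comp_smul, ← hc, smul_smul, inv_mul_cancel₀ hc0, one_smul]
    haveI : IsIso (c⁻¹ • ψ) := by
      refine (Groth.L21.Mod.isIso_iff_stalk_bijective _).2 fun x => ?_
      obtain ⟨g⟩ := Groth.L03.Euler.exists_stalk_equiv hL x
      obtain ⟨g'⟩ := Groth.L03.Euler.exists_stalk_equiv (Groth.L18.Ample.isInvertible_structureModule X) x
      have hsurj : Function.Surjective (st (c⁻¹ • ψ) x) := fun v => ⟨st s x v, by
        rw [← Groth.L21.RR.st_comp, hr]; simp [st]⟩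
      let F := g'.symm.toLinearMap ∘ₗ st (c⁻¹ • ψ) x ∘ₗ g.toLinearMap
      have hF : Function.Surjective F := g'.symm.surjective.comp (hsurj.comp g.surjective)
      have hinj : Function.Injective F := OrzechProperty.injective_of_surjective_endomorphism F hF
      refine ⟨fun a b hab => ?_, hsurj⟩
      obtain ⟨a, rfl⟩ := g.surjective a
      obtain ⟨b, rfl⟩ := g.surjective b
      exact congrArg g (hinj (congrArg g'.symm hab))
    rw [Groth.L21.RR.deg_congr k (asIso (c⁻¹ • ψ)), Curv2.deg, Nat.cast_one, one_mul, sub_self] at hdeg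
    exact lt_irrefl _ hdeg

end Groth.L21.CurveDual
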