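import Groth.Agent.L21.CurveDual.PullH
import Groth.Agent.L21.CurveDual.Euler
import Groth.Agent.L21.RR.BaseChange
import Groth.Agent.L18.GlobGen
import Groth.Agent.L18.AmplePull
import Groth.Agent.L29.DCoh.PullTensor

/-!
The dualizing module of a curve commutes with extensions of the ground field.
-/

set_option autoImplicit false
set_option backward.isDefEq.respectTransparency false
set_option backward.isDefEq.respectTransparency.types false
set_option linter.style.haveILetI false
universe u

open CategoryTheory CategoryTheory.Limits AlgebraicGeometry Opposite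
open scoped TensorProduct

noncomputable section

namespace Groth.L21.CurveDual.BC

open Groth.L21.RR (h finite_HH')
open Groth.L18.Ample (tw)
open Groth.L00.Tensor (tensorIso tensorComm tensorRightF)
open Groth.L16.CohLinear (hmap)
open Groth.L21.CurveDual (homH0 homH0_bijective homEquiv homEquiv_apply finrank_hom h0_eq_finrank_hom tw_succ' twIso)

section Twist

variable {X : Scheme.{u}} {Q R : X.Modules} (e : CohB1.tensorMod R Q ≅ Coh.structureModule X)

/-- Powers of the twist by `R`. -/
def twPow : ℕ → (X.Modules ≌ X.Modules)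
  | 0 => CategoryTheory.Equivalence.refl
  | n + 1 => (twPow n).trans (Groth.L21.Bundle.twistEquiv (L := R) (L' := Q) (tensorComm _ _ ≪≫ e))

theorem twPow_functor (A : X.Modules) : ∀ n, (twPow e n).functor.obj A = tw A R n
  | 0 => rfl
  | n + 1 => congrArg (fun M => CohB1.tensorMod M R) (twPow_functor A n)

theorem twPow_inverse : ∀ (n : ℕ) (B : X.Modules), (twPow e n).inverse.obj B = tw B Q n
  | 0, _ => rfl
  | n + 1, B => (twPow_inverse n (CohB1.tensorMod B Q)).trans (tw_succ' B Q n)

theorem nonempty_pullback_tw {Y : Scheme.{u}} (g : Y ⟶ X) (B L : X.Modules) : ∀ n,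
    Nonempty ((Scheme.Modules.pullback g).obj (tw B L n) ≅
      tw ((Scheme.Modules.pullback g).obj B) ((Scheme.Modules.pullback g).obj L) n)
  | 0 => ⟨Iso.refl _⟩
  | n + 1 => by
    obtain ⟨i⟩ := nonempty_pullback_tw g B L n
    exact ⟨(Groth.L29.DC.PullTensor.pullTensor g _ L).symm ≪≫ tensorIso i (Iso.refl _)⟩

theorem nonempty_tw_congr {A A' : X.Modules} (i : A ≅ A') (L : X.Modules) : ∀ n, Nonempty (tw A L n ≅ tw A' L n)
  | 0 => ⟨i⟩
  | n + 1 => by obtain ⟨j⟩ := nonempty_tw_congr i L n; exact ⟨tensorIso j (Iso.refl L)⟩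

/-- A globally generated module receiving no nonzero map from `O` is zero. -/
theorem zero_of_gg {M N : X.Modules} (hM : Curv2.IsGloballyGenerated M) (u : M ⟶ N)
    (hs : ∀ s : Coh.structureModule X ⟶ M, s ≫ u = 0) : u = 0 := by
  obtain ⟨ι, p, hp⟩ := hM
  haveI := hp
  rw [← cancel_epi p, comp_zero]
  refine Sigma.hom_ext _ _ fun i => ?_
  rw [comp_zero, ← Category.assoc]
  exact hs _

variable (k : Type u) [Field k] [X.Over (Spec (CommRingCat.of k))]

include e in
theorem nonempty_hom_tw (A : X.Modules) : ∀ (n : ℕ) (B : X.Modules),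
    Nonempty ((tw A R n ⟶ B) ≃ₗ[k] (A ⟶ tw B Q n))
  | 0, _ => ⟨LinearEquiv.refl k _⟩
  | n + 1, B => by
    rw [← tw_succ' B Q n]
    obtain ⟨J⟩ := nonempty_hom_tw A n (CohB1.tensorMod B Q)
    let E := Groth.L21.Bundle.twistEquiv (L := R) (L' := Q) (tensorComm _ _ ≪≫ e)
    exact ⟨({ E.toAdjunction.homEquiv (tw A R n) B with
      map_add' := fun a b => by
        haveI : E.inverse.Additive := Functor.additive_of_preserves_binary_products _
        simp [Adjunction.homEquiv_unit, Functor.map_add]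
      map_smul' := fun c a => by
        simp only [Equiv.toFun_as_coe, Adjunction.homEquiv_unit, RingHom.id_apply]
        have h1 : E.inverse.map (c • a) = c • E.inverse.map a := Groth.L21.CurveDual.twist_map_smul k Q c a
        rw [h1]
        exact Linear.comp_smul _ _ _ _ _ _ } :
      (CohB1.tensorMod (tw A R n) R ⟶ B) ≃ₗ[k] (tw A R n ⟶ CohB1.tensorMod B Q)).trans J⟩

end Twist

variable {k : Type u} [Field k] {X : Scheme.{u}} [X.Over (Spec (CommRingCat.of k))]
  [IsProper (X ↘ Spec (CommRingCat.of k))]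
  {K : Type u} [Field K] [Algebra k K] {Y : Scheme.{u}} [Y.Over (Spec (CommRingCat.of K))]
  [IsProper (Y ↘ Spec (CommRingCat.of K))] (g : Y ⟶ X)
  (sq : IsPullback g (Y ↘ Spec (CommRingCat.of K)) (X ↘ Spec (CommRingCat.of k))
    (Spec.map (CommRingCat.ofHom (algebraMap k K))))
  {ω : X.Modules} {t : Coh.HH X ω 1 →ₗ[k] k} (hω : Canon.IsRDualOver k X 1 ω t)
  {ω' : Y.Modules} {t' : Coh.HH Y ω' 1 →ₗ[K] K} (hω' : Canon.IsRDualOver K Y 1 ω' t')

include sq hω hω' in
/-- The comparison map and its surjectivity on maps out of pullbacks. -/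
theorem exists_comparison :
    ∃ φ : (Scheme.Modules.pullback g).obj ω ⟶ ω', ∀ F : X.Modules, Coh.IsCoh F →
      ∀ f : (Scheme.Modules.pullback g).obj F ⟶ ω',
        ∃ f' : (Scheme.Modules.pullback g).obj F ⟶ (Scheme.Modules.pullback g).obj ω, f' ≫ φ = f := by
  classical
  haveI := Groth.L21.RR.isNoetherian_of_proper (X := X) k
  haveI : Coh.IsQCoh ω := hω.1
  haveI : Coh.IsQCoh ((Scheme.Modules.pullback g).obj ω) := Groth.L16.AffineBC.isQCoh_pullback g ω
  let tK : Coh.HH Y ((Scheme.Modules.pullback g).obj ω) 1 →ₗ[K] K :=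
    (TensorProduct.AlgebraTensorModule.lift
      (LinearMap.toSpanSingleton K (Coh.HH X ω 1 →ₗ[k] K) ((Algebra.linearMap k K).comp t))).comp
      (ΘEquiv g sq ω 1).symm.toLinearMap
  have htK : ∀ z, tK (pullH g sq ω 1 z) = algebraMap k K (t z) := fun z => by
    show TensorProduct.AlgebraTensorModule.lift _ ((ΘEquiv g sq ω 1).symm _) = _
    rw [← ΘEquiv_one_tmul, LinearEquiv.symm_apply_apply, TensorProduct.AlgebraTensorModule.lift_tmul]
    simp
  obtain ⟨φ, hφ⟩ := (hω'.2 _ inferInstance).2 tK
  refine ⟨φ, fun F hF f => ?_⟩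
  haveI : Coh.IsQCoh F := hF.1
  haveI : Coh.IsQCoh ((Scheme.Modules.pullback g).obj F) := Groth.L16.AffineBC.isQCoh_pullback g F
  haveI := finite_HH' k hF 1
  let b := Module.finBasis k (Coh.HH X F 1)
  let ψ : Fin (Module.finrank k (Coh.HH X F 1)) → (F ⟶ ω) := fun i => (homEquiv hω F hF.1).symm (b.coord i)
  let l : Module.Dual K (Coh.HH Y ((Scheme.Modules.pullback g).obj F) 1) :=
    homEquiv hω' _ inferInstance f
  let ξ : (Scheme.Modules.pullback g).obj F ⟶ (Scheme.Modules.pullback g).obj ω :=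
    ∑ i, l (pullH g sq F 1 (b i)) • (Scheme.Modules.pullback g).map (ψ i)
  refine ⟨ξ, (homEquiv hω' _ inferInstance).injective ?_⟩
  change homEquiv hω' _ inferInstance (ξ ≫ φ) = l
  have hpull : ∀ z, homEquiv hω' _ inferInstance (ξ ≫ φ) (pullH g sq F 1 z) = l (pullH g sq F 1 z) := by
    intro z
    have h1 : ξ ≫ φ = ∑ i, l (pullH g sq F 1 (b i)) • ((Scheme.Modules.pullback g).map (ψ i) ≫ φ) := by
      rw [Preadditive.sum_comp]
      exact Finset.sum_congr rfl fun i _ => Linear.smul_comp _ _ _ _ _ _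
    rw [h1, map_sum, LinearMap.sum_apply]
    have h2 : ∀ i, homEquiv hω' _ inferInstance ((Scheme.Modules.pullback g).map (ψ i) ≫ φ) (pullH g sq F 1 z) =
        algebraMap k K (b.coord i z) := fun i => by
      rw [homEquiv_apply, Groth.L16.CohLinear.hmap_comp, ← pullH_natural g sq (ψ i)]
      refine (LinearMap.congr_fun hφ _).trans ((htK _).trans (congrArg _ ?_))
      exact LinearMap.congr_fun ((homEquiv hω F hF.1).apply_symm_apply (b.coord i)) z
    simp only [map_smul, LinearMap.smul_apply, h2]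
    conv_rhs => rw [← b.sum_repr z]
    change _ = l (Θ g sq F 1 ((1 : K) ⊗ₜ ∑ i, b.repr z i • b i))
    rw [TensorProduct.tmul_sum, map_sum, map_sum]
    refine Finset.sum_congr rfl fun i _ => ?_
    rw [← TensorProduct.smul_tmul, show b.repr z i • (1 : K) = algebraMap k K (b.repr z i) * 1 from Algebra.smul_def _ _,
      Θ_smul, map_smul, smul_eq_mul, smul_eq_mul, mul_comm]
    rfl
  refine LinearMap.ext fun w => ?_
  obtain ⟨w, rfl⟩ := (ΘEquiv g sq F 1).surjective w
  induction w using TensorProduct.induction_on with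
  | zero => simp
  | add x y hx hy => rw [map_add, map_add, map_add, hx, hy]
  | tmul c z =>
    have h3 : ΘEquiv g sq F 1 (c ⊗ₜ z) = c • pullH g sq F 1 z := by
      rw [← ΘEquiv_one_tmul, ← map_smul, TensorProduct.smul_tmul', smul_eq_mul, mul_one]
    rw [h3, map_smul, map_smul, hpull]

include sq hω hω' in
/-- The dualizing module commutes with extensions of the ground field. -/
theorem nonempty_iso_pullback (hd : topologicalKrullDim X ≤ 1) (hdY : topologicalKrullDim Y ≤ 1) :
    Nonempty ((Scheme.Modules.pullback g).obj ω ≅ ω') := by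
  haveI := Groth.L21.RR.isNoetherian_of_proper (X := X) k
  haveI := Groth.L21.RR.isNoetherian_of_proper (X := Y) K
  haveI : X.IsSeparated := ⟨by rw [← Limits.terminal.comp_from (X ↘ Spec (CommRingCat.of k))]; infer_instance⟩
  haveI : Y.IsSeparated := ⟨by rw [← Limits.terminal.comp_from (Y ↘ Spec (CommRingCat.of K))]; infer_instance⟩
  haveI := Groth.L17.BC.isAffineHom_of_isPullback (fX k X) (fX K Y) g sq
  obtain ⟨φ, hsurj⟩ := exists_comparison g sq hω hω'
  obtain ⟨P, -⟩ := Groth.L21.CurveDual.nonempty_pol k hd ∅ Set.finite_empty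
  let Q' := (Scheme.Modules.pullback g).obj P.Q
  let R' := (Scheme.Modules.pullback g).obj P.R
  let e' : CohB1.tensorMod R' Q' ≅ Coh.structureModule Y :=
    Groth.L29.DC.PullTensor.pullTensor g P.R P.Q ≪≫ (Scheme.Modules.pullback g).mapIso P.e ≪≫
      Groth.L29.LocFree.pullbackUnitIso g
  have hQ : CohB1.IsAmple Q' := Groth.L18.Ample.isAmple_pullback_of_isAffineHom g P.ample
  have hωc := Groth.L21.CurveDual.isCoh hd hω
  have hωc' := Groth.L21.CurveDual.isCoh hdY hω'
  have hgω : Coh.IsCoh ((Scheme.Modules.pullback g).obj ω) := Groth.L16.AffineBC.isCoh_pullback g hωc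
  have hO := Groth.L16.CohClosedPush.isCoh_structure (X := X)
  -- maps out of the negative powers
  have hkey : ∀ n, Function.Bijective (fun f : (twPow e' n).functor.obj (Coh.structureModule Y) ⟶
      (Scheme.Modules.pullback g).obj ω => f ≫ φ) := by
    intro n
    let F := tw (Coh.structureModule X) P.R n
    have hF : Coh.IsCoh F := Groth.L22.EnrSev.isCoh_tw hO P.invR n
    have hgF : Coh.IsCoh ((Scheme.Modules.pullback g).obj F) := Groth.L16.AffineBC.isCoh_pullback g hF
    obtain ⟨i₁⟩ := nonempty_pullback_tw g (Coh.structureModule X) P.R n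
    obtain ⟨i₂⟩ := nonempty_tw_congr (Groth.L29.LocFree.pullbackUnitIso g) R' n
    rw [twPow_functor e']
    let i : (Scheme.Modules.pullback g).obj F ≅ tw (Coh.structureModule Y) R' n := i₁ ≪≫ i₂
    let T : ((Scheme.Modules.pullback g).obj F ⟶ (Scheme.Modules.pullback g).obj ω) →ₗ[K]
        ((Scheme.Modules.pullback g).obj F ⟶ ω') :=
      { toFun := fun f => f ≫ φ
        map_add' := fun a b => Preadditive.add_comp _ _ _ _ _ _
        map_smul' := fun c a => Linear.smul_comp _ _ _ _ _ _ }
    have hT : Function.Surjective T := fun f => hsurj F hF f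
    have hr1 : Module.finrank K ((Scheme.Modules.pullback g).obj F ⟶ ω') = h k 1 F :=
      (finrank_hom hω' _ hgF.1).trans (Groth.L21.RR.h_pullback g sq hF 1)
    obtain ⟨j⟩ := nonempty_pullback_tw g ω P.Q n
    obtain ⟨JY⟩ := nonempty_hom_tw e' K (Coh.structureModule Y) n ((Scheme.Modules.pullback g).obj ω)
    obtain ⟨JX⟩ := nonempty_hom_tw P.e k (Coh.structureModule X) n ω
    let J := (Linear.homCongr K i (Iso.refl ((Scheme.Modules.pullback g).obj ω))).trans JY
    have hr2 : Module.finrank K ((Scheme.Modules.pullback g).obj F ⟶ (Scheme.Modules.pullback g).obj ω) = h k 1 F := by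
      rw [J.finrank_eq, ← h0_eq_finrank_hom, ← Groth.L21.RR.h_congr K j 0,
        Groth.L21.RR.h_pullback g sq (Groth.L22.EnrSev.isCoh_tw hωc P.invQ n) 0,
        h0_eq_finrank_hom, ← JX.finrank_eq]
      exact finrank_hom hω _ hF.1
    haveI : Module.Finite K ((Scheme.Modules.pullback g).obj F ⟶ ω') := Groth.L21.CurveDual.finite_hom hω' hgF
    haveI : Module.Finite K ((Scheme.Modules.pullback g).obj F ⟶ (Scheme.Modules.pullback g).obj ω) := by
      haveI : Module.Finite K (Coh.HH Y (tw ((Scheme.Modules.pullback g).obj ω) Q' n) 0) :=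
        finite_HH' K (Groth.L22.EnrSev.isCoh_tw hgω hQ.1 n) 0
      haveI : Module.Finite K (Coh.structureModule Y ⟶ tw ((Scheme.Modules.pullback g).obj ω) Q' n) :=
        Module.Finite.equiv (LinearEquiv.ofBijective _ (homH0_bijective (k := K) _)).symm
      exact Module.Finite.equiv J.symm
    have hTb : Function.Bijective T :=
      ⟨(LinearMap.injective_iff_surjective_of_finrank_eq_finrank (hr2.trans hr1.symm)).2 hT, hT⟩
    refine ⟨fun a b hab => ?_, fun f => ?_⟩
    · exact (cancel_epi i.hom).1 (hTb.1 (show (i.hom ≫ a) ≫ φ = (i.hom ≫ b) ≫ φ by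
        rw [Category.assoc, Category.assoc]; exact congrArg _ hab))
    · obtain ⟨a, ha⟩ := hT (i.hom ≫ f)
      refine ⟨i.inv ≫ a, ?_⟩
      show (i.inv ≫ a) ≫ φ = f
      rw [Category.assoc, show a ≫ φ = i.hom ≫ f from ha, i.inv_hom_id_assoc]
  have hggtw : ∀ {M : Y.Modules}, Coh.IsCoh M → ∃ n, Curv2.IsGloballyGenerated ((twPow e' n).inverse.obj M) := by
    intro M hM
    obtain ⟨n₀, hn₀⟩ := Groth.L18.Ample.exists_forall_isGloballyGenerated hQ M hM
    refine ⟨n₀, ?_⟩
    rw [twPow_inverse e']
    exact Groth.L18.Ample.isGloballyGenerated_of_iso (tensorComm _ _ ≪≫ (twIso M Q' n₀).symm) (hn₀ n₀ le_rfl)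
  -- injective
  haveI : Mono φ := by
    have hK := (Groth.L16.CohKernel.isCoh_kernel_cokernel hgω hωc' φ).1
    obtain ⟨n, hn⟩ := hggtw hK
    refine Preadditive.mono_of_kernel_zero ((twPow e' n).inverse.map_injective ?_)
    rw [Functor.map_zero]
    refine zero_of_gg hn _ fun s => ?_
    obtain ⟨f, rfl⟩ := ((twPow e' n).toAdjunction.homEquiv (Coh.structureModule Y) (kernel φ)).surjective s
    rw [← Adjunction.homEquiv_naturality_right,
      show f ≫ kernel.ι φ = 0 from (hkey n).1 (by simp), Adjunction.homEquiv_unit, Functor.map_zero, comp_zero]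
  -- surjective
  haveI : Epi φ := by
    obtain ⟨n, hn⟩ := hggtw hωc'
    refine Preadditive.epi_of_cokernel_zero ((twPow e' n).inverse.map_injective ?_)
    rw [Functor.map_zero]
    refine zero_of_gg hn _ fun s => ?_
    obtain ⟨f, rfl⟩ := ((twPow e' n).toAdjunction.homEquiv (Coh.structureModule Y) ω').surjective s
    obtain ⟨a, ha⟩ := (hkey n).2 f
    rw [← Adjunction.homEquiv_naturality_right,
      show f ≫ cokernel.π φ = 0 by rw [← ha, Category.assoc, cokernel.condition, comp_zero],
      Adjunction.homEquiv_unit, Functor.map_zero, comp_zero]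
  haveI : IsIso φ := isIso_of_mono_of_epi φ
  exact ⟨asIso φ⟩

end Groth.L21.CurveDual.BC
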