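import Groth.Agent.L21.CurveDual.Euler
import Groth.Agent.L16.HomSh.Adjunction
import Groth.Agent.L16.HomSh.Coherent
import Groth.Agent.L15.Ref.Stalk
import Groth.Agent.L21.Curve.NormalTotal
import Groth.Prelude.Def_TorSh

/-!
`χ(Hom(F, ω)) = -χ(F)` for coherent `F` without closed associated points.
-/

set_option autoImplicit false
set_option backward.isDefEq.respectTransparency false
set_option backward.isDefEq.respectTransparency.types false
set_option linter.style.haveILetI false
universe u

open CategoryTheory CategoryTheory.Limits AlgebraicGeometry Opposite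

noncomputable section

namespace Groth.L21.CurveDual

open Groth.L21.RR (h)
open Groth.L18.Ample (tw)
open Groth.L00.Tensor (tensorIso tensorAssoc tensorUnitRight tensorLeftF tensorRightF tensorFlipIso)
open Groth.L22.CurveDeg (phi)
open Groth.L16.HomSh (homModF tensorHomAdj)

variable {X : Scheme.{u}} {k : Type u} [Field k] [X.Over (Spec (CommRingCat.of k))]

variable (k) in
/-- Tensoring on the left sends scalar multiples to scalar multiples. -/
theorem tensorLeft_map_smul (M : X.Modules) {A B : X.Modules} (c : k) (g : A ⟶ B) :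
    (tensorLeftF M).map (c • g) = c • (tensorLeftF M).map g := by
  rw [← cancel_epi ((tensorFlipIso M).hom.app A), Linear.comp_smul, ← (tensorFlipIso M).hom.naturality,
    ← (tensorFlipIso M).hom.naturality, twist_map_smul k M c g, Linear.smul_comp]

/-- The tensor-Hom adjunction, linearly. -/
def homTensor (M A B : X.Modules) :
    (A ⟶ (homModF M).obj B) ≃ₗ[k] (CohB1.tensorMod M A ⟶ B) :=
  { ((tensorHomAdj M).homEquiv A B).symm with
    map_add' := fun a b => by
      haveI : (homModF M).Additive := ⟨fun {_ _ g g'} => Groth.L16.HomSh.post_add g g'⟩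
      haveI : (tensorLeftF M).Additive := (tensorHomAdj M).left_adjoint_additive
      simp [Adjunction.homEquiv_counit]
    map_smul' := fun c a => by
      simp only [Equiv.toFun_as_coe, Adjunction.homEquiv_counit, RingHom.id_apply]
      rw [tensorLeft_map_smul k M c a]
      exact Linear.smul_comp _ _ _ _ _ _ }

/-- Tensor products with iterated twists. -/
def tensorTwIso (F L : X.Modules) : ∀ n : ℕ,
    CohB1.tensorMod F (tw (Coh.structureModule X) L n) ≅ tw F L n
  | 0 => tensorUnitRight F
  | n + 1 => (tensorAssoc F _ L).symm ≪≫ tensorIso (tensorTwIso F L n) (Iso.refl L)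

variable [IsProper (X ↘ Spec (CommRingCat.of k))] {ω : X.Modules} {t : Coh.HH X ω 1 →ₗ[k] k}

/-- `H⁰(Hom(F, ω) ⊗ Qⁿ) = H¹(F ⊗ Rⁿ)^∨`. -/
theorem h0_hom_tw (hω : Canon.IsRDualOver k X 1 ω t) (P : Pol k X) {F : X.Modules} (hF : Coh.IsCoh F) (n : ℕ) :
    h k 0 (tw ((homModF F).obj ω) P.Q n) = h k 1 (tw F P.R n) := by
  haveI := Groth.L21.RR.isNoetherian_of_proper (X := X) k
  rw [h0_eq_finrank_hom, ← finrank_hom_tw, (homTensor (k := k) F _ ω).finrank_eq,
    ← Groth.L21.RR.h_congr k (tensorTwIso F P.R n) 1]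
  exact finrank_hom hω _ (Groth.L16.CohSupport.isCoh_of_iso (tensorTwIso F P.R n).symm
    (Groth.L22.EnrSev.isCoh_tw hF P.invR n)).1

/-- The duality of Euler characteristics. -/
theorem euler_hom_eq_neg (hd : topologicalKrullDim X ≤ 1) (hω : Canon.IsRDualOver k X 1 ω t) {F : X.Modules}
    (hF : Coh.IsCoh F) (hass : ∀ x : X, IsClosed ({x} : Set X) → ¬ Curv2.IsAssPoint F x) :
    Curv2.euler k X (RefHull.homSh F ω) = -Curv2.euler k X F := by
  haveI := Groth.L21.RR.isNoetherian_of_proper (X := X) k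
  haveI : Coh.IsQCoh F := hF.1
  obtain ⟨P, hP⟩ := nonempty_pol k hd {x | Curv2.IsAssPoint F x} (Groth.L22.EnrSev.finite_setOf_isAssPoint hF.2)
  have hH : Coh.IsCoh ((homModF F).obj ω) := Groth.L16.HomSh.isCoh_homMod hF (isCoh hd hω)
  obtain ⟨n₀, hn₀⟩ := exists_h1_tw_zero P hH
  obtain ⟨j₀, hj₀⟩ := Groth.L22.EnrSev.subsingleton_H0_tw k P.e P.invQ P.invR hF hass P.φ P.affine
    fun x hx => hP hx
  have eq : ∀ n, n₀ ≤ n → j₀ ≤ n → (Curv2.euler k X ((homModF F).obj ω) + Curv2.euler k X F) +
      (n : ℤ) * (phi k P.Q 1 ((homModF F).obj ω) + phi k P.R 1 F) = 0 := by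
    intro n hn hj
    have h1 := Groth.L21.RR.euler_eq k hd (tw ((homModF F).obj ω) P.Q n)
    rw [euler_tw hd P.invQ hH n, h0_hom_tw hω P hF n,
      Groth.L21.RR.h_eq_zero_of_subsingleton k (hn₀ n hn)] at h1
    have h2 := Groth.L21.RR.euler_eq k hd (tw F P.R n)
    rw [euler_tw hd P.invR hF n, Groth.L21.RR.h_eq_zero_of_subsingleton k (hj₀ n hj)] at h2
    simp only [Nat.cast_zero, sub_zero, zero_sub] at h1 h2
    linarith
  have e1 := eq (n₀ + j₀) (by omega) (by omega)
  have e2 := eq (n₀ + j₀ + 1) (by omega) (by omega)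
  rw [Groth.L03.Euler.euler_iso (asIso (Groth.L15.Ref.toHomMod F ω))]
  change Curv2.euler k X ((homModF F).obj ω) = _
  push_cast at e1 e2
  nlinarith [e1, e2]

omit [X.Over (Spec (CommRingCat.of k))] [IsProper (X ↘ Spec (CommRingCat.of k))] in
/-- Torsion-free modules on an integral curve have no closed associated points. -/
theorem not_assPoint_of_torsionFree [IsIntegral X] [IsLocallyNoetherian X] {F : X.Modules} (hF : TorSh.IsTorsionFree F) {x : X}
    (hx : x ≠ genericPoint X) : ¬ Curv2.IsAssPoint F x := by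
  intro h
  obtain ⟨v, hv⟩ := ((isAssociatedPrime_iff_exists_injective_linearMap _ _).1 h).2
  obtain ⟨a, ha, ha0⟩ : ∃ a ∈ IsLocalRing.maximalIdeal (X.presheaf.stalk x), a ≠ 0 :=
    Submodule.exists_mem_ne_zero_of_ne_bot fun hbot => hx (Groth.L21.NormalTotal.eq_genericPoint_of_isField x
      (IsLocalRing.isField_iff_maximalIdeal_eq.2 hbot))
  haveI := hF x
  have h1 : a • v (Submodule.Quotient.mk 1) = 0 := by
    rw [← map_smul, ← Submodule.Quotient.mk_smul, smul_eq_mul, mul_one,
      (Submodule.Quotient.mk_eq_zero _).2 ha, map_zero]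
  rcases smul_eq_zero.1 h1 with h2 | h2
  · exact ha0 h2
  · have := hv (h2.trans (map_zero v).symm)
    rw [Submodule.Quotient.mk_eq_zero] at this
    exact (IsLocalRing.maximalIdeal.isMaximal _).ne_top ((Ideal.eq_top_iff_one _).2 this)

end Groth.L21.CurveDual
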