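import Groth.Agent.L21.CurveDual.Generate
import Groth.Agent.L21.CurveDual.Support
import Groth.Agent.L21.CurveDual.Hom
import Groth.Agent.L22.CurveDeg.NonSpecial

/-!
The dualizing module of an integral curve has rank one; torsion-free extensions of it.
-/

set_option autoImplicit false
set_option backward.isDefEq.respectTransparency false
set_option backward.isDefEq.respectTransparency.types false
set_option linter.style.haveILetI false
universe u

open CategoryTheory CategoryTheory.Limits AlgebraicGeometry Opposite
open scoped ZeroObject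

noncomputable section

namespace Groth.L21.CurveDual

open Groth.L21.RR (SuppClosed h hk st)
open Groth.L16.CohLinear (hmap delta overLin exact_hmap_delta exact_hmap_hmap)
open Groth.L16.CohSupport (len len_add len_ne_top)
open Groth.L22.CurveDeg (phi)

variable {X : Scheme.{u}} [IsIntegral X]

/-- Torsion-free modules on an integral curve have no nonzero submodules supported at closed points. -/
theorem isZero_of_mono_torsionFree [IsLocallyNoetherian X] (hdim : topologicalKrullDim X ≤ 1)
    {G F : X.Modules} (i : G ⟶ F) [Mono i] (hF : TorSh.IsTorsionFree F) [Coh.IsQCoh G] (hs : SuppClosed G)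
    (hgen : ¬ IsClosed ({genericPoint X} : Set X)) : IsZero G := by
  have hGt : TorSh.IsTorsionFree G := Groth.L13.DecBound.isTorsionFree_sub' i hF
  have : Mono (0 : G ⟶ (0 : X.Modules)) := by
    refine Groth.L22.EnrSev.mono_of_injective_ass _ fun x hx => ?_
    exfalso
    by_cases hxη : x = genericPoint X
    · haveI := hs x (hxη ▸ hgen)
      obtain ⟨v, hv⟩ := ((isAssociatedPrime_iff_exists_injective_linearMap _ _).1 hx).2
      have h1 := hv (Subsingleton.elim (v (Submodule.Quotient.mk 1)) (v 0))
      rw [Submodule.Quotient.mk_eq_zero] at h1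
      exact (IsLocalRing.maximalIdeal.isMaximal _).ne_top ((Ideal.eq_top_iff_one _).2 h1)
    · exact not_assPoint_of_torsionFree hGt hxη hx
  exact IsZero.of_mono (0 : G ⟶ (0 : X.Modules)) (isZero_zero _)

variable {k : Type u} [Field k] [X.Over (Spec (CommRingCat.of k))] [IsProper (X ↘ Spec (CommRingCat.of k))]
  {ω : X.Modules} {t : Coh.HH X ω 1 →ₗ[k] k}

/-- On an integral curve `ω` has rank one. -/
theorem len_generic_eq_one (hdim : topologicalKrullDim X = 1) (hω : Canon.IsRDualOver k X 1 ω t) :
    len (genericPoint X) ω = 1 := by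
  haveI := Groth.L21.RR.isNoetherian_of_proper (X := X) k
  obtain ⟨P, -⟩ := nonempty_pol k hdim.le ∅ Set.finite_empty
  have hη := Groth.L22.CurveDeg.generic_not_isClosed hdim
  have hO := Groth.L16.CohClosedPush.isCoh_structure (X := X)
  have hωc := isCoh hdim.le hω
  have h1 := (exists_defect hdim.le hω P).1
  have hlf := Groth.L12.FinCov.isFinLocFreeOfRank_one_of_isInvertible P.invQ
  have h2 := phi_R (k := k) hdim.le P hO
  rw [h2, neg_neg, Groth.L22.CurveDeg.phi_eq_of_integral k hdim hlf hωc, Groth.L22.CurveDeg.phi_structure] at h1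
  have hpos : 0 < Curv2.deg k X P.Q 1 := by
    by_contra hle
    rw [← Groth.L22.CurveDeg.phi_structure] at hle
    have hsc := suppClosed_of_phi_le k hdim.le P.ample hO (not_lt.1 hle)
    haveI := hsc _ hη
    haveI : Nontrivial ((Coh.structureModule X).presheaf.stalk (genericPoint X)) :=
      (Groth.L15.Ref.strE (genericPoint X)).toEquiv.symm.nontrivial
    exact false_of_nontrivial_of_subsingleton ((Coh.structureModule X).presheaf.stalk (genericPoint X))
  have hne : len (genericPoint X) ω ≠ ⊤ :=
    len_ne_top hωc fun z _ hz => Groth.L22.CurveDeg.eq_of_specializes_nonclosed hdim.le hη hz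
  generalize len (genericPoint X) ω = L at h1 hne ⊢
  obtain ⟨m, rfl⟩ := ENat.ne_top_iff_exists.1 hne
  rw [ENat.toNat_coe] at h1
  have : (m : ℤ) = 1 := mul_right_cancel₀ hpos.ne' (by rw [h1, one_mul])
  exact_mod_cast (show m = 1 by exact_mod_cast this)

/-- Torsion-free extensions of `ω` by finite modules of length at least two are globally generated. -/
theorem isGloballyGenerated_ext (hdim : topologicalKrullDim X = 1) (hω : Canon.IsRDualOver k X 1 ω t)
    (h0 : h k 0 (Coh.structureModule X) ≤ 1) {F Q : X.Modules} (hF : Coh.IsCoh F) (hQ : Coh.IsCoh Q)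
    (f : ω ⟶ F) (g : F ⟶ Q) (w : f ≫ g = 0) (hex : (ShortComplex.mk f g w).ShortExact)
    (htf : TorSh.IsTorsionFree F) (hQ0 : SuppClosed Q) (hQ2 : 2 ≤ h k 0 Q) :
    Curv2.IsGloballyGenerated F := by
  haveI := Groth.L21.RR.isNoetherian_of_proper (X := X) k
  haveI : Coh.IsQCoh F := hF.1
  have hη := Groth.L22.CurveDeg.generic_not_isClosed hdim
  haveI : Mono f := hex.mono_f
  haveI : Epi g := hex.epi_g
  have hno : ∀ (Q' : X.Modules) (i : Q' ⟶ F), Coh.IsQCoh Q' → Mono i → Mono (i ≫ g) → IsZero Q' :=
    fun Q' i hq hi hig => isZero_of_mono_torsionFree hdim.le i htf (suppClosed_of_mono (i ≫ g) hQ0) hη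
  have hepi := epi_secMap_comp hdim.le hω h0 hF.1 hQ f g w hex.exact hQ0 hQ2 hno
  by_contra hgg
  have hne : ¬ IsZero (cokernel (secMap F)) := fun hz => hgg
    ⟨_, secMap F, Preadditive.epi_of_isZero_cokernel _ hz⟩
  let π := cokernel.π (secMap F)
  have hRq : Coh.IsQCoh (cokernel (secMap F)) :=
    Groth.L29.DC.isQCoh_cokernel' _ inferInstance hF.1
  -- the generic lengths
  have hlF : len (genericPoint X) F = 1 := by
    have h1 := len_add hex (genericPoint X)
    haveI := hQ0 _ hη
    rw [show len (genericPoint X) Q = 0 from Module.length_eq_zero, add_zero, len_generic_eq_one hdim hω] at h1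
    exact h1
  haveI : IsSimpleModule (X.presheaf.stalk (genericPoint X)) (F.presheaf.stalk (genericPoint X)) :=
    Module.length_eq_one_iff.1 hlF
  have hRs : SuppClosed (cokernel (secMap F)) := by
    intro x hx
    by_contra hR
    have hxη : x = genericPoint X :=
      (Groth.L22.CurveDeg.eq_of_specializes_nonclosed hdim.le hx (genericPoint_specializes x)).symm
    subst hxη
    have hGs : SuppClosed (kernel π) := by
      intro y hy
      obtain rfl : y = genericPoint X :=
        (Groth.L22.CurveDeg.eq_of_specializes_nonclosed hdim.le hy (genericPoint_specializes y)).symm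
      have hker : LinearMap.ker (st π (genericPoint X)) = ⊥ := by
        refine (IsSimpleOrder.eq_bot_or_eq_top _).resolve_right fun htop => hR ⟨fun a b => ?_⟩
        have hsurj : Function.Surjective (st π (genericPoint X)) :=
          (Groth.L21.Mod.epi_iff_stalk_surjective π).1 inferInstance _
        obtain ⟨a, rfl⟩ := hsurj a
        obtain ⟨b, rfl⟩ := hsurj b
        rw [LinearMap.ker_eq_top.1 htop]
        rfl
      refine ⟨fun a b => ?_⟩
      have hz : ∀ c, st (kernel.ι π) (genericPoint X) c = 0 := fun c => by
        refine (Submodule.mem_bot (X.presheaf.stalk (genericPoint X))).1 (hker ▸ LinearMap.mem_ker.2 ?_)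
        rw [← Groth.L21.RR.st_comp, kernel.condition]
        simp [st]
        rfl
      exact (Groth.L21.Mod.mono_iff_stalk_injective (kernel.ι π)).1 inferInstance _ ((hz a).trans (hz b).symm)
    haveI := Groth.L29.DC.isQCoh_kernel' π hF.1 hRq
    have hk0 := isZero_of_mono_torsionFree hdim.le (kernel.ι π) htf hGs hη
    have hs0 : secMap F = 0 := by
      rw [← kernel.lift_ι π (secMap F) (cokernel.condition _), hk0.eq_of_tgt (kernel.lift π _ _) 0, zero_comp]
    rw [hs0, zero_comp] at hepi
    have hid : 𝟙 Q = 0 := by
      rw [← cancel_epi (0 : (SheafOfModules.free Γ(F, ⊤) : X.Modules) ⟶ Q), zero_comp, zero_comp]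
    rw [Groth.L21.RR.h_eq_zero_of_subsingleton k
      (Groth.L03.Euler.subsingleton_HH_of_isZero ((IsZero.iff_id_eq_zero Q).2 hid) 0)] at hQ2
    omega
  -- a map to `ω` from the kernel
  let TF : ShortComplex X.Modules := ShortComplex.mk (kernel.ι π) π (kernel.condition π)
  have hTF : TF.ShortExact := { exact := ShortComplex.exact_kernel π }
  have hzero : ∀ y, hmap π 0 y = 0 := fun y => by
    obtain ⟨u, rfl⟩ := (homH0_bijective (k := k) F).2 y
    change hmap π 0 (hmap u 0 _) = 0
    rw [← Groth.L16.CohLinear.hmap_comp, ← Groth.L18.GenLoc.homOfSection_secOf u, ← ι_secMap, Category.assoc,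
      cokernel.condition, comp_zero, Groth.L21.RR.hmap_zero]
  have hF'q : Coh.IsQCoh (kernel π) := Groth.L29.DC.isQCoh_kernel' π hF.1 hRq
  have hF1 : ¬ Subsingleton (Coh.HH X (kernel π) 1) := fun hs => hne (by
    haveI : Subsingleton (Coh.HH X (cokernel (secMap F)) 0) := ⟨fun a b => by
      obtain ⟨y, rfl⟩ := (exact_hmap_delta hTF 0 a).1 (hs.elim _ _)
      obtain ⟨y', rfl⟩ := (exact_hmap_delta hTF 0 b).1 (hs.elim _ _)
      exact (hzero y).trans (hzero y').symm⟩
    exact isZero_of_suppClosed_of_sections hRs)
  obtain ⟨φ, hφ⟩ := exists_ne_zero_of_h1 hω hF'q hF1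
  haveI : Mono φ := by
    have hK : SuppClosed (kernel φ) := by
      intro y hy
      obtain rfl : y = genericPoint X :=
        (Groth.L22.CurveDeg.eq_of_specializes_nonclosed hdim.le hy (genericPoint_specializes y)).symm
      have hinjι : Function.Injective (st (kernel.ι π) (genericPoint X)) :=
        (Groth.L21.Mod.mono_iff_stalk_injective (kernel.ι π)).1 inferInstance _
      have hlK : len (genericPoint X) (kernel π) = 1 := by
        have h1 := len_add hTF (genericPoint X)
        haveI := hRs _ hη
        rw [show len (genericPoint X) TF.X₃ = 0 from Module.length_eq_zero, add_zero] at h1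
        exact h1.symm.trans hlF
      haveI : IsSimpleModule (X.presheaf.stalk (genericPoint X)) ((kernel π : X.Modules).presheaf.stalk (genericPoint X)) :=
        Module.length_eq_one_iff.1 hlK
      have hker : LinearMap.ker (st φ (genericPoint X)) = ⊥ := by
        refine (IsSimpleOrder.eq_bot_or_eq_top _).resolve_right fun htop => hφ (eq_zero_of_st hω hF'q φ ?_)
        intro x hx v
        obtain rfl : x = genericPoint X :=
          (Groth.L22.CurveDeg.eq_of_specializes_nonclosed hdim.le hx (genericPoint_specializes x)).symm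
        exact LinearMap.mem_ker.1 (htop ▸ Submodule.mem_top)
      refine ⟨fun a b => ?_⟩
      have hz : ∀ c, st (kernel.ι φ) (genericPoint X) c = 0 := fun c => by
        refine (Submodule.mem_bot (X.presheaf.stalk (genericPoint X))).1 (hker ▸ LinearMap.mem_ker.2 ?_)
        rw [← Groth.L21.RR.st_comp, kernel.condition]
        simp [st]
        rfl
      exact (Groth.L21.Mod.mono_iff_stalk_injective (kernel.ι φ)).1 inferInstance _ ((hz a).trans (hz b).symm)
    haveI := Groth.L29.DC.isQCoh_kernel' φ hF'q hω.1
    exact Preadditive.mono_of_kernel_zero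
      ((isZero_of_mono_torsionFree hdim.le (kernel.ι φ ≫ kernel.ι π) htf hK hη).eq_of_src _ _)
  -- dimensions
  haveI := Groth.L21.RR.finite_HH' (X := X) k hF 0
  haveI := Groth.L21.RR.finite_HH' (X := X) k (isCoh hdim.le hω) 0
  haveI := Groth.L21.RR.finite_HH' (X := X) k (isCoh hdim.le hω) 1
  haveI := Groth.L21.RR.finite_HH' (X := X) k hQ 0
  have hsurj : Function.Surjective (hk k (kernel.ι π) 0) := fun y => (exact_hmap_hmap hTF 0 y).1 (hzero y)
  haveI : Module.Finite k (Coh.HH X (kernel π) 0) :=
    Module.Finite.of_injective (hk k φ 0) (Groth.L21.RR.injective_hmap_zero φ)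
  have e1 : h k 0 F ≤ h k 0 ω := (LinearMap.finrank_le_finrank_of_surjective hsurj).trans
    (LinearMap.finrank_le_finrank_of_injective (f := hk k φ 0) (Groth.L21.RR.injective_hmap_zero φ))
  have e2 := Groth.L03.Euler.finrank_eq_add (hk k f 0) (hk k g 0)
    (show Function.Exact (hk k f 0) (hk k g 0) from exact_hmap_hmap hex 0)
  rw [LinearMap.finrank_range_of_inj (show Function.Injective (hk k f 0) from
    Groth.L21.RR.injective_hmap_zero f)] at e2
  have e3 := Groth.L03.Euler.finrank_eq_add (hk k g 0) (overLin k (delta hex 0))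
    (show Function.Exact (hk k g 0) (overLin k (delta hex 0)) from exact_hmap_delta hex 0)
  have e4 : Module.finrank k (LinearMap.range (overLin k (delta hex 0))) ≤ h k 1 ω := Submodule.finrank_le _
  have e5 := (h1_le hdim.le hω).trans h0
  simp only [h] at e1 e2 e3 e4 e5 hQ2
  omega

end Groth.L21.CurveDual
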