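import Groth.Agent.L21.CurveGor.Main
import Groth.Agent.L21.CurveDual.Hom
import Groth.Agent.L21.CurveDual.Integral

/-!
Biduality with respect to the dualizing module for torsion-free modules on integral curves.
-/

set_option autoImplicit false
set_option backward.isDefEq.respectTransparency false
set_option linter.style.haveILetI false
universe u

open CategoryTheory CategoryTheory.Limits AlgebraicGeometry Opposite TopologicalSpace
attribute [local instance] Curv2.resAlgebra

noncomputable section

namespace Groth.L21.Bidual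

open RefHull
open Groth.L21.RR (st h)
open Groth.L22.CurveDeg (phi)
open Groth.L21.CurveDual
open Groth.L21.CurveGor (Setup)
open Groth.L15.Ref (isCoh_homSh)

variable {X : Scheme.{u}} (F W : X.Modules)

/-- Evaluation at an element of a stalk, with values in `W`. -/
def evalAt (x : X) : F.presheaf.stalk x →ₗ[X.presheaf.stalk x] StalkHom (homSh F W) W x where
  toFun v := (LinearMap.applyₗ v).comp (evalStalk F W x)
  map_add' v w := LinearMap.ext fun θ => map_add (evalStalk F W x θ) v w
  map_smul' a v := LinearMap.ext fun θ => map_smul (evalStalk F W x θ) a v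

theorem evalAt_apply (x : X) (v : F.presheaf.stalk x) (θ : (homSh F W).presheaf.stalk x) :
    evalAt F W x v θ = evalStalk F W x θ v := rfl

/-- Biduality on sections. -/
def evalFun (U : X.Opens) : Γ(F, U) →+ Γ(homSh (homSh F W) W, U) where
  toFun s := ⟨fun x => evalAt F W x.1 (F.presheaf.germ U x.1 x.2 s), fun V i g x => by
    obtain ⟨V', hV', j, n, w⟩ := isLocSect_of_mem g V (𝟙 V) (F.presheaf.map i.op s) x
    refine ⟨V', hV', j, n, fun y => ?_⟩
    have e := w y
    rw [TopCat.Presheaf.germ_res_apply] at e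
    rw [evalAt_apply, evalStalk_germ]
    exact e⟩
  map_zero' := Subtype.ext <| funext fun x => by
    simp only [map_zero]
    rfl
  map_add' s t := Subtype.ext <| funext fun x => by
    simp only [map_add]
    rfl

/-- The biduality map into `W`. -/
def evalMap : F ⟶ homSh (homSh F W) W :=
  ⟨PresheafOfModules.homMk
    { app := fun U => AddCommGrpCat.ofHom (evalFun F W U.unop)
      naturality := fun {U V} i => by
        ext s
        refine Subtype.ext (funext fun x => ?_)
        change evalAt F W x.1 _ = evalAt F W x.1 _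
        exact congrArg _ (TopCat.Presheaf.germ_res_apply' F.presheaf i x.1 x.2 s) }
    (fun U r s => Subtype.ext <| funext fun x =>
      (congrArg (evalAt F W x.1) (Mero.germ_smul F U.unop x.1 x.2 r s)).trans
        (map_smul (evalAt F W x.1) _ _))⟩

theorem stalkMapₗ_evalMap (x : X) :
    (evalStalk (homSh F W) W x).comp (stalkMapₗ (evalMap F W) x) = evalAt F W x := by
  refine LinearMap.ext fun v => ?_
  obtain ⟨U, hxU, m, rfl⟩ := TopCat.Presheaf.exists_germ_eq (F := F.presheaf) (x := x) v
  rw [LinearMap.comp_apply, stalkMapₗ_germ, evalStalk_germ]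
  rfl

theorem evalMap_spec (x : X) (v : F.presheaf.stalk x) (θ : (homSh F W).presheaf.stalk x) :
    evalStalk (homSh F W) W x (stalkMapₗ (evalMap F W) x v) θ = evalStalk F W x θ v :=
  LinearMap.congr_fun (LinearMap.congr_fun (stalkMapₗ_evalMap F W x) v) θ

section Curve

variable {F W} {k : Type u} [Field k] [X.Over (Spec (CommRingCat.of k))]
  [IsProper (X ↘ Spec (CommRingCat.of k))] {t : Coh.HH X W 1 →ₗ[k] k}

/-- Homomorphisms into a module without associated closed point have none. -/
theorem not_assPoint_homSh (hF : Coh.IsCoh F) [IsLocallyNoetherian X] [Coh.IsQCoh W] {x : X}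
    (hW : ¬ Curv2.IsAssPoint W x) : ¬ Curv2.IsAssPoint (homSh F W) x := by
  intro hx
  obtain ⟨φ, hφ⟩ := ((isAssociatedPrime_iff_exists_injective_linearMap _ _).1 hx).2
  let θ := evalStalk F W x (φ (Submodule.Quotient.mk 1))
  have hθ : θ ≠ 0 := fun h0 => by
    have h1 := hφ (((Groth.L15.Ref.evalStalk_bijective F W hF x).1
      (h0.trans (map_zero _).symm)).trans (map_zero φ).symm)
    rw [Submodule.Quotient.mk_eq_zero] at h1
    exact (IsLocalRing.maximalIdeal.isMaximal _).ne_top ((Ideal.eq_top_iff_one _).2 h1)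
  obtain ⟨v, hv⟩ : ∃ v, θ v ≠ 0 := by
    by_contra hh
    push Not at hh
    exact hθ (LinearMap.ext hh)
  have hkill : ∀ a ∈ IsLocalRing.maximalIdeal (X.presheaf.stalk x), a • θ v = 0 := fun a ha => by
    rw [← LinearMap.smul_apply, ← map_smul (evalStalk F W x), ← map_smul φ, ← Submodule.Quotient.mk_smul,
      smul_eq_mul, mul_one, (Submodule.Quotient.mk_eq_zero _).2 ha, map_zero, map_zero, LinearMap.zero_apply]
  refine hW ((isAssociatedPrime_iff_exists_injective_linearMap _ _).2
    ⟨(IsLocalRing.maximalIdeal.isMaximal _).isPrime,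
      Submodule.liftQ _ (LinearMap.toSpanSingleton _ _ (θ v)) fun a ha => hkill a ha, ?_⟩)
  rw [injective_iff_map_eq_zero]
  intro z hz
  obtain ⟨a, rfl⟩ := Submodule.Quotient.mk_surjective _ z
  rw [Submodule.Quotient.mk_eq_zero]
  by_contra ha
  rw [Submodule.liftQ_apply, LinearMap.toSpanSingleton_apply] at hz
  exact hv ((IsUnit.smul_eq_zero (IsLocalRing.notMem_maximalIdeal.1 ha)).1 hz)

/-- Biduality for modules without associated closed points. -/
theorem isIso_evalMap [AlgebraicGeometry.IsReduced X] (S : Setup k X W t) (hF : Coh.IsCoh F)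
    (hass : ∀ x : X, IsClosed ({x} : Set X) → ¬ Curv2.IsAssPoint F x) : IsIso (evalMap F W) := by
  haveI := Groth.L21.RR.isNoetherian_of_proper (X := X) k
  haveI : Coh.IsQCoh W := S.hω.1
  haveI : Coh.IsQCoh F := hF.1
  have hWc := isCoh S.hd S.hω
  have hH : Coh.IsCoh (homSh F W) := isCoh_homSh F W hF hWc
  have hHass : ∀ x : X, IsClosed ({x} : Set X) → ¬ Curv2.IsAssPoint (homSh F W) x :=
    fun x hx => not_assPoint_homSh hF (S.assω x hx)
  have hD := isCoh_homSh (homSh F W) W hH hWc
  haveI : Mono (evalMap F W) := Groth.L22.EnrSev.mono_of_injective_ass (evalMap F W) fun x hx => by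
    have hxn : ¬ IsClosed ({x} : Set X) := fun hc => hass x hc hx
    have hsupp := mem_support_of_not_isClosed S.hd S.hω hxn
    rw [injective_iff_map_eq_zero]
    intro v hv
    have hK := Groth.L21.RedCurve.stalk_isField S.hd hxn
    letI := hK.toField
    by_contra hne
    obtain ⟨f, hf⟩ : ∃ f : F.presheaf.stalk x →ₗ[X.presheaf.stalk x] X.presheaf.stalk x, f v ≠ 0 := by
      by_contra hh
      push Not at hh
      exact hne ((Module.forall_dual_apply_eq_zero_iff (X.presheaf.stalk x) v).1 hh)
    refine hsupp (subsingleton_of_forall_eq 0 fun w => ?_)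
    obtain ⟨θ, hθ⟩ := (Groth.L15.Ref.evalStalk_bijective F W hF x).2
      ((LinearMap.toSpanSingleton _ _ w).comp f)
    have h1 := evalMap_spec F W x v θ
    have h0 : stalkMapₗ (evalMap F W) x v = 0 := hv
    rw [h0, map_zero, LinearMap.zero_apply, hθ, LinearMap.comp_apply, LinearMap.toSpanSingleton_apply] at h1
    exact (smul_eq_zero.1 h1.symm).resolve_left hf
  obtain ⟨P, -⟩ := nonempty_pol k S.hd ∅ Set.finite_empty
  have hphi : phi k P.Q 1 (homSh (homSh F W) W) ≤ phi k P.Q 1 F := by
    rw [Groth.L21.CurveGor.phi_hom_eq S.hd S.hω hH hHass P, Groth.L21.CurveGor.phi_hom_eq S.hd S.hω hF hass P]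
  obtain ⟨hs, he⟩ := (phi_coker k S.hd P.ample (evalMap F W) hF hD).2 hphi
  rw [euler_hom_eq_neg S.hd S.hω hH hHass, euler_hom_eq_neg S.hd S.hω hF hass, neg_neg] at he
  have h0 : h k 0 (cokernel (evalMap F W)) = 0 := by omega
  haveI : Module.Finite k (Coh.HH X (cokernel (evalMap F W)) 0) :=
    Groth.L21.RR.finite_HH' (X := X) k (Groth.L16.CohKernel.isCoh_kernel_cokernel hF hD _).2 0
  haveI : Subsingleton (Coh.HH X (cokernel (evalMap F W)) 0) := Module.finrank_zero_iff.1 h0
  haveI : Epi (evalMap F W) := Preadditive.epi_of_isZero_cokernel _ (isZero_of_suppClosed_of_sections hs)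
  exact isIso_of_mono_of_epi _

end Curve

end Groth.L21.Bidual
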