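import Groth.Agent.L03.Euler.Dim
import Groth.Agent.L03.InterLen.Main
import Groth.Agent.L04.CMBasic
import Groth.Prelude.Def_CAlg
import Groth.Prelude.Def_CurvBase
import Groth.Agent.L15.Ref.Stalk

/-!
Equidimensional Cohen–Macaulay curves: dimension, stalk dimensions, associated points.
-/

set_option autoImplicit false
set_option linter.style.haveILetI false
universe u

open CategoryTheory AlgebraicGeometry

noncomputable section

namespace Groth.L21.CurveDual

variable (k : Type u) [Field k] {X : Scheme.{u}} [X.Over (Spec (CommRingCat.of k))]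
  [IsProper (X ↘ Spec (CommRingCat.of k))]

include k in
theorem dim_le_one (hdim : ∀ Z ∈ irreducibleComponents X, topologicalKrullDim ↥Z = (1 : ℕ)) :
    topologicalKrullDim X ≤ 1 := by
  by_contra h
  have h3 : ((2 : ℕ) : WithBot ℕ∞) ≤ topologicalKrullDim (Set.univ : Set X) := by
    rw [IsHomeomorph.topologicalKrullDim_eq _ (Homeomorph.Set.univ X).isHomeomorph]
    generalize topologicalKrullDim X = t at h ⊢
    induction t using WithBot.recBotCoe with
    | bot => exact absurd bot_le h
    | coe t =>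
      induction t using WithTop.recTopCoe with
      | top => exact le_top
      | coe n =>
        have : ¬ n ≤ 1 := fun hn => h (WithBot.coe_le_coe.2 (Nat.cast_le.2 hn))
        exact WithBot.coe_le_coe.2 (Nat.cast_le.2 (show 2 ≤ n by omega))
  obtain ⟨y, -, hy⟩ := Groth.L03.Euler.exists_point_dim_closure_ge isClosed_univ h3
  obtain ⟨a, b, ha, -, hab⟩ := Groth.L00.EquidimFlat.point_data' k (X ↘ Spec (CommRingCat.of k)) _ hdim y
  obtain ⟨n, hn, hnt⟩ := Groth.L07.DimToolkit.exists_fdim_rtrdeg (X ↘ Spec (CommRingCat.of k)) y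
  rw [Groth.L00.EquidimFlat.fdim_qX k] at hn
  obtain rfl : n = a := by exact_mod_cast hnt.symm.trans ha
  rw [hn] at hy
  have h2 : (1 : ℕ) = n + b := by exact_mod_cast hab
  have h4 : 2 ≤ n := by exact_mod_cast hy
  omega

include k in
theorem ringKrullDim_stalk_closed (hdim : ∀ Z ∈ irreducibleComponents X, topologicalKrullDim ↥Z = (1 : ℕ))
    {x : X} (hx : IsClosed ({x} : Set X)) : ringKrullDim (X.presheaf.stalk x) = (1 : ℕ) := by
  obtain ⟨a, b, ha, hb, hab⟩ := Groth.L00.EquidimFlat.point_data' k (X ↘ Spec (CommRingCat.of k)) _ hdim x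
  obtain ⟨n, hn, hnt⟩ := Groth.L07.DimToolkit.exists_fdim_rtrdeg (X ↘ Spec (CommRingCat.of k)) x
  rw [Groth.L00.EquidimFlat.fdim_qX k, hx.closure_eq] at hn
  have h0 : topologicalKrullDim ({x} : Set X) = 0 := by
    refine le_antisymm (topologicalKrullDim_zero_of_discreteTopology _) ?_
    haveI : Nonempty (TopologicalSpace.IrreducibleCloseds ({x} : Set X)) :=
      ⟨⟨closure {⟨x, rfl⟩}, isIrreducible_singleton.closure, isClosed_closure⟩⟩
    exact Order.krullDim_nonneg
  rw [h0] at hn
  obtain rfl : n = 0 := by exact_mod_cast hn.symm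
  obtain rfl : a = 0 := by exact_mod_cast ha.symm.trans hnt
  rw [hb]
  have h2 : (1 : ℕ) = 0 + b := by exact_mod_cast hab
  rw [h2, zero_add]

omit [IsProper (X ↘ Spec (CommRingCat.of k))] [X.Over (Spec (CommRingCat.of k))] in
/-- A positive-dimensional Cohen–Macaulay local ring has no embedded maximal ideal. -/
theorem not_assPoint_of_CM {X : Scheme.{u}} {x : X}
    (hCM : LocCoh.IsCohenMacaulayLocalRing (X.presheaf.stalk x))
    (hd : ringKrullDim (X.presheaf.stalk x) = (1 : ℕ)) :
    ¬ Curv2.IsAssPoint (Coh.structureModule X) x := by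
  intro h
  haveI := hCM
  have h1 : IsAssociatedPrime (IsLocalRing.maximalIdeal (X.presheaf.stalk x)) (X.presheaf.stalk x) :=
    (LinearEquiv.isAssociatedPrime_iff (Groth.L15.Ref.strE x)).2 h
  have h2 := Groth.L04.depth_le_ringKrullDim_quotient (R := X.presheaf.stalk x) (M := X.presheaf.stalk x) h1
  rw [← LocCoh.IsCohenMacaulayLocalRing.supportDim_eq_depth, Module.supportDim_self_eq_ringKrullDim, hd] at h2
  have h3 : ringKrullDim (X.presheaf.stalk x ⧸ IsLocalRing.maximalIdeal (X.presheaf.stalk x)) = 0 :=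
    ringKrullDim_eq_zero_of_field (IsLocalRing.ResidueField (X.presheaf.stalk x))
  rw [h3] at h2
  exact absurd h2 (by decide)

end Groth.L21.CurveDual
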