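import Groth.Agent.L03.ShStab.BCFilt
import Groth.Agent.L21.RR.Mul
import Groth.Agent.S1551
import Groth.Agent.L15.Ref.Stalk

/-!
The dimension bound `≤ 1` survives extensions of the ground field.
-/

set_option autoImplicit false
set_option backward.isDefEq.respectTransparency false
set_option linter.style.haveILetI false
universe u

open CategoryTheory CategoryTheory.Limits AlgebraicGeometry

noncomputable section

namespace Groth.L21.CurveDual.BC

theorem support_structure (Z : Scheme.{u}) : CohB1.support (Coh.structureModule Z) = Set.univ := by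
  refine Set.eq_univ_iff_forall.2 fun x hsub => ?_
  haveI := hsub
  haveI : Subsingleton (Z.presheaf.stalk x) := (Groth.L15.Ref.strE x).toEquiv.subsingleton
  exact one_ne_zero (Subsingleton.elim (1 : Z.presheaf.stalk x) 0)

variable {k : Type u} [Field k] {X : Scheme.{u}} [X.Over (Spec (CommRingCat.of k))]
  [IsProper (X ↘ Spec (CommRingCat.of k))]

/-- Dimension at most one is kept by field extensions. -/
theorem dim_bc_le (hd : topologicalKrullDim X ≤ 1) (K : Type u) [Field K] [Algebra k K] :
    topologicalKrullDim ↥(Curv2.bc k X K) ≤ 1 := by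
  haveI := Groth.L21.RR.isNoetherian_of_proper (X := X) k
  haveI : X.IsSeparated := ⟨by rw [← Limits.terminal.comp_from (X ↘ Spec (CommRingCat.of k))]; infer_instance⟩
  by_cases hne : Nonempty X
  swap
  · haveI : IsEmpty X := not_nonempty_iff.1 hne
    haveI : IsEmpty ↥(Curv2.bc k X K) := ⟨fun y => IsEmpty.false ((Curv2.bcFst k X K).base y)⟩
    haveI : IsEmpty (TopologicalSpace.IrreducibleCloseds ↥(Curv2.bc k X K)) :=
      ⟨fun Z => IsEmpty.false Z.isIrreducible.nonempty.some⟩
    exact (le_of_eq (Order.krullDim_eq_bot (α := TopologicalSpace.IrreducibleCloseds ↥(Curv2.bc k X K)))).trans bot_le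
  obtain ⟨L, hL⟩ := Groth.Agent.S1551.aux X hd
  have hsupp : topologicalKrullDim (CohB1.support (Coh.structureModule X)) ≤ ((1 : ℕ) : WithBot ℕ∞) :=
    (Topology.IsInducing.subtypeVal.topologicalKrullDim_le).trans hd
  have h0 : ¬ IsZero (Coh.structureModule X) := fun h => by
    obtain ⟨x⟩ := hne
    have h1 := (Groth.L21.Mod.isZero_iff_support_eq_empty _).1 h
    rw [support_structure] at h1
    exact (h1.le (Set.mem_univ x)).elim
  obtain ⟨e, he1, he⟩ := Groth.L03.ShStab.Basic.exists_nat_dim h0 hsupp
  have h2 := Groth.L03.ShStab.BC.dim_support_bc (k := k) hL Groth.L16.CohClosedPush.isCoh_structure h0 he K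
  have h3 : CohB1.support ((Scheme.Modules.pullback (Groth.L16.AffineBC.gb k K X)).obj (Coh.structureModule X)) =
      Set.univ := by
    refine Set.eq_univ_iff_forall.2 fun x hsub => ?_
    haveI := hsub
    have hx : x ∈ CohB1.support (Coh.structureModule (Groth.L16.AffineBC.Xb k K X)) := by
      rw [support_structure]; trivial
    haveI : Subsingleton ↑((Groth.L00.Stk.F _ x).obj ((Scheme.Modules.pullback (Groth.L16.AffineBC.gb k K X)).obj
        (Coh.structureModule X))) := hsub
    exact hx ((((Groth.L00.Stk.F _ x).mapIso (Groth.L29.LocFree.pullbackUnitIso (Groth.L16.AffineBC.gb k K X)).symm).toLinearEquiv).toEquiv.subsingleton)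
  rw [h3] at h2
  have h4 : topologicalKrullDim (Set.univ : Set ↥(Groth.L16.AffineBC.Xb k K X)) =
      topologicalKrullDim ↥(Groth.L16.AffineBC.Xb k K X) :=
    IsHomeomorph.topologicalKrullDim_eq _ (Homeomorph.Set.univ _).isHomeomorph
  change topologicalKrullDim ↥(Groth.L16.AffineBC.Xb k K X) ≤ 1
  rw [← h4, h2]
  exact_mod_cast he1

end Groth.L21.CurveDual.BC
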