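import Groth.Agent.L21.CurveDual.Split
import Groth.Agent.L21.RedCurve.Basic
import Groth.Agent.L22.CurveDeg.ZeroDim

/-!
Generation by global sections onto finite quotients of extensions of the dualizing module.
-/

set_option autoImplicit false
set_option backward.isDefEq.respectTransparency false
set_option backward.isDefEq.respectTransparency.types false
set_option linter.style.haveILetI false
universe u

open CategoryTheory CategoryTheory.Limits AlgebraicGeometry Opposite

noncomputable section

namespace Groth.L21.CurveDual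

open Groth.L21.RR (SuppClosed h hk st)
open Groth.L16.CohLinear (hmap delta overLin exact_hmap_delta exact_hmap_hmap)

variable {X : Scheme.{u}}

theorem suppClosed_of_mono {A B : X.Modules} (i : A ⟶ B) [Mono i] (hB : SuppClosed B) : SuppClosed A := fun x hx => by
  haveI := hB x hx
  have h1 : Function.Injective (st i x) := (Groth.L21.Mod.mono_iff_stalk_injective i).1 inferInstance x
  exact h1.subsingleton

/-- The universal map from a free module given by all global sections. -/
def secMap (F : X.Modules) : (SheafOfModules.free Γ(F, ⊤) : X.Modules) ⟶ F :=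
  Limits.Sigma.desc fun t => Groth.L16.homOfSection F t

theorem ι_secMap (F : X.Modules) (t : Γ(F, ⊤)) :
    Limits.Sigma.ι (fun _ : Γ(F, ⊤) => Coh.structureModule X) t ≫ secMap F = Groth.L16.homOfSection F t :=
  Limits.Sigma.ι_desc _ _

variable {k : Type u} [Field k] [X.Over (Spec (CommRingCat.of k))] [IsProper (X ↘ Spec (CommRingCat.of k))]
  {ω : X.Modules} {t : Coh.HH X ω 1 →ₗ[k] k}

/-- If all sections of `F` die in the finite quotient `Q` then `h⁰(Q) ≤ h¹(ω)`. -/
theorem h0_le_of_sections_zero (hd : topologicalKrullDim X ≤ 1) (hω : Canon.IsRDualOver k X 1 ω t)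
    {F Q : X.Modules} (hF : Coh.IsQCoh F) (hQ : Coh.IsCoh Q)
    (f : ω ⟶ F) (g : F ⟶ Q) [Epi g] (w : f ≫ g = 0) (hex : (ShortComplex.mk f g w).Exact)
    (hz : ∀ y, hmap g 0 y = 0) : h k 0 Q ≤ h k 1 ω := by
  haveI := Groth.L21.RR.isNoetherian_of_proper (X := X) k
  let T : ShortComplex X.Modules := ShortComplex.mk (kernel.ι g) g (kernel.condition g)
  have hT : T.ShortExact := { exact := ShortComplex.exact_kernel g }
  haveI : Epi (kernel.lift g f w) := hex.epi_kernelLift
  haveI : Module.Finite k (Coh.HH X ω 1) := Groth.L21.RR.finite_HH' k (isCoh hd hω) 1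
  have hsurj : Function.Surjective (hk k (kernel.lift g f w) 1) :=
    Groth.L21.RR.surjective_hmap_one_of_suppClosed hd _ fun x _ => ModuleCat.subsingleton_of_isZero
      ((Groth.L00.Stk.F X x).map_isZero (isZero_cokernel_of_epi _))
  have hinj : Function.Injective (overLin k (delta hT 0)) := by
    refine (injective_iff_map_eq_zero _).2 fun q hq => ?_
    obtain ⟨y, hy⟩ := (exact_hmap_delta hT 0 q).1 hq
    rw [← hy]
    exact hz y
  haveI : Module.Finite k (Coh.HH X T.X₁ 1) := Module.Finite.of_surjective _ hsurj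
  exact (LinearMap.finrank_le_finrank_of_injective hinj).trans
    (LinearMap.finrank_le_finrank_of_surjective hsurj)

/-- Global sections of `F` generate onto `Q`. -/
theorem epi_secMap_comp (hd : topologicalKrullDim X ≤ 1) (hω : Canon.IsRDualOver k X 1 ω t)
    (h0 : h k 0 (Coh.structureModule X) ≤ 1) {F Q : X.Modules} (hF : Coh.IsQCoh F) (hQ : Coh.IsCoh Q)
    (f : ω ⟶ F) (g : F ⟶ Q) [Epi g] (w : f ≫ g = 0) (hex : (ShortComplex.mk f g w).Exact)
    (hQ0 : SuppClosed Q) (hQ2 : 2 ≤ h k 0 Q)
    (hno : ∀ (Q' : X.Modules) (i : Q' ⟶ F), Coh.IsQCoh Q' → Mono i → Mono (i ≫ g) → IsZero Q') :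
    Epi (secMap F ≫ g) := by
  haveI := Groth.L21.RR.isNoetherian_of_proper (X := X) k
  by_contra hne
  let π := cokernel.π (secMap F ≫ g)
  have hCne : ¬ IsZero (cokernel (secMap F ≫ g)) := fun hz => hne (Preadditive.epi_of_isZero_cokernel _ hz)
  have hCs : SuppClosed (cokernel (secMap F ≫ g)) := fun x hx => by
    haveI := hQ0 x hx
    have h1 : Function.Surjective (st π x) := (Groth.L21.Mod.epi_iff_stalk_surjective π).1 inferInstance x
    exact h1.subsingleton
  have hCq : Coh.IsQCoh (cokernel (secMap F ≫ g)) :=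
    Groth.L29.DC.isQCoh_cokernel' _ inferInstance hQ.1
  have hkill : ∀ u : Coh.structureModule X ⟶ F, u ≫ g ≫ π = 0 := fun u => by
    rw [← Groth.L18.GenLoc.homOfSection_secOf u, ← ι_secMap, Category.assoc, ← Category.assoc (secMap F),
      cokernel.condition, comp_zero]
  let TF : ShortComplex X.Modules := ShortComplex.mk (kernel.ι (g ≫ π)) (g ≫ π) (kernel.condition _)
  have hTF : TF.ShortExact := { exact := ShortComplex.exact_kernel _ }
  have hF' : Coh.IsQCoh (kernel (g ≫ π)) := Groth.L29.DC.isQCoh_kernel' _ hF hCq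
  have hzero : ∀ y, hmap (g ≫ π) 0 y = 0 := fun y => by
    obtain ⟨u, rfl⟩ := (homH0_bijective (k := k) F).2 y
    change hmap (g ≫ π) 0 (hmap u 0 _) = 0
    rw [← Groth.L16.CohLinear.hmap_comp, hkill, Groth.L21.RR.hmap_zero]
  have hF1 : ¬ Subsingleton (Coh.HH X (kernel (g ≫ π)) 1) := fun hs => hCne (by
    haveI : Subsingleton (Coh.HH X (cokernel (secMap F ≫ g)) 0) := ⟨fun a b => by
      obtain ⟨y, rfl⟩ := (exact_hmap_delta hTF 0 a).1 (hs.elim _ _)
      obtain ⟨y', rfl⟩ := (exact_hmap_delta hTF 0 b).1 (hs.elim _ _)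
      exact (hzero y).trans (hzero y').symm⟩
    exact isZero_of_suppClosed_of_sections hCs)
  let ι := kernel.ι (g ≫ π)
  let f' : ω ⟶ kernel (g ≫ π) := kernel.lift _ f (by rw [← Category.assoc, w, zero_comp])
  let g' : kernel (g ≫ π) ⟶ kernel π := kernel.lift _ (ι ≫ g) (by rw [Category.assoc]; exact kernel.condition _)
  have hg' : g' ≫ kernel.ι π = ι ≫ g := kernel.lift_ι _ _ _
  have hf' : f' ≫ ι = f := kernel.lift_ι _ _ _
  have w' : f' ≫ g' = 0 := by
    rw [← cancel_mono (kernel.ι π), Category.assoc, hg', reassoc_of% hf', w, zero_comp]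
  have hex' : (ShortComplex.mk f' g' w').Exact := by
    rw [ShortComplex.exact_iff_exact_up_to_refinements]
    intro A a (ha : a ≫ g' = 0)
    obtain ⟨A', π', hπ', b, hb⟩ := hex.exact_up_to_refinements (a ≫ ι)
      (show (a ≫ ι) ≫ g = 0 by rw [Category.assoc, ← hg', reassoc_of% ha, zero_comp])
    refine ⟨A', π', hπ', b, ?_⟩
    rw [← cancel_mono ι]
    simp only [Category.assoc] at hb ⊢
    exact hb.trans (congrArg (b ≫ ·) hf'.symm)
  haveI : Epi g' := by
    rw [epi_iff_surjective_up_to_refinements]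
    intro A a
    obtain ⟨A', π', hπ', b, hb⟩ := surjective_up_to_refinements_of_epi g (a ≫ kernel.ι π)
    refine ⟨A', π', hπ', kernel.lift (g ≫ π) b ?_, ?_⟩
    · rw [← Category.assoc, ← hb, Category.assoc, Category.assoc, kernel.condition, comp_zero, comp_zero]
    · rw [← cancel_mono (kernel.ι π), Category.assoc, Category.assoc, hg', kernel.lift_ι_assoc]
      exact hb
  have hQ'1 : Subsingleton (Coh.HH X (kernel π) 1) :=
    Groth.L21.RR.subsingleton_HH_of_suppClosed (suppClosed_of_mono (kernel.ι π) hQ0) 0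
  obtain ⟨r, hr⟩ := (h1_zero_or_split hd hω h0 hF' (Groth.L29.DC.isQCoh_kernel' π hQ.1 hCq) f' g' w' hex'
    hQ'1).resolve_left hF1
  have hk0 : IsZero (kernel r) := by
    refine hno (kernel r) (kernel.ι r ≫ ι) (Groth.L29.DC.isQCoh_kernel' r hF' hω.1) inferInstance ?_
    rw [Category.assoc, ← hg', ← Category.assoc]
    haveI : Mono (kernel.ι r ≫ g') := by
      refine Preadditive.mono_of_cancel_zero _ fun {A} a ha => ?_
      obtain ⟨A', π', hπ', b, hb⟩ := hex'.exact_up_to_refinements (a ≫ kernel.ι r)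
        (show (a ≫ kernel.ι r) ≫ g' = 0 by rw [Category.assoc, ha])
      have hb0 : b = 0 := by
        have h2 := congrArg (· ≫ r) hb
        simpa [hr] using h2.symm
      rw [← cancel_mono (kernel.ι r), ← cancel_epi π']
      simpa [hb0] using hb
    infer_instance
  have hid : r ≫ f' = 𝟙 _ := by
    have h1 : kernel.lift r (𝟙 (kernel (g ≫ π)) - r ≫ f') (by simp [hr]) = 0 := hk0.eq_of_tgt _ _
    have h2 := congrArg (· ≫ kernel.ι r) h1
    simp only [kernel.lift_ι, zero_comp] at h2
    exact (sub_eq_zero.1 h2).symm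
  have hg0 : g' = 0 := by
    rw [← Category.id_comp g', ← hid, Category.assoc, w', comp_zero]
  have hπ0 : kernel.ι π = 0 := by
    rw [← cancel_epi g', hg0, zero_comp, zero_comp]
  haveI : Mono π := Preadditive.mono_of_kernel_zero hπ0
  have hz : ∀ y, hmap g 0 y = 0 := fun y => Groth.L21.RR.injective_hmap_zero π (by
    rw [← Groth.L16.CohLinear.hmap_comp, map_zero]
    exact hzero y)
  have := (h0_le_of_sections_zero hd hω hF hQ f g w hex hz).trans ((h1_le hd hω).trans h0)
  omega

end Groth.L21.CurveDual
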