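import Groth.Agent.L17.FlatBase.PullTheta
import Groth.Agent.L21.RR.Coh

/-!
Pullback of cohomology along an extension of the ground field, naturally.
-/

set_option autoImplicit false
set_option linter.style.haveILetI false
set_option backward.isDefEq.respectTransparency false
universe u

open CategoryTheory CategoryTheory.Limits AlgebraicGeometry TopologicalSpace Opposite Abelian
open scoped TensorProduct
noncomputable section

namespace Groth.L21.CurveDual.BC

open Groth.L17 Groth.L17.SheafTheta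
open Groth.L16.CohLinear (hmap tm)

variable {k : Type u} [Field k] {X : Scheme.{u}} [X.Over (Spec (CommRingCat.of k))]
  {K : Type u} [Field K] [Algebra k K] {Y : Scheme.{u}} [Y.Over (Spec (CommRingCat.of K))] (g : Y ⟶ X)
  (sq : IsPullback g (Y ↘ Spec (CommRingCat.of K)) (X ↘ Spec (CommRingCat.of k))
    (Spec.map (CommRingCat.ofHom (algebraMap k K))))

abbrev fX (k : Type u) [Field k] (X : Scheme.{u}) [X.Over (Spec (CommRingCat.of k))] :
    X ⟶ Spec (CommRingCat.of k) := X ↘ Spec (CommRingCat.of k)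

abbrev ρX (k : Type u) [Field k] (X : Scheme.{u}) [X.Over (Spec (CommRingCat.of k))] (F : X.Modules) :
    k →+* End (Coh.toAb F) :=
  SchemeTheta.actEnd (Coh.toGlobal (fX k X)) F

/-- The `k`-linear passage to classes on the open `⊤`. -/
def e₁ (F : X.Modules) (q : ℕ) :
    Coh.HH X F q ≃ₗ[k] ExtTheta.EA (ρX k X F) (zFree (X := X.toTopCat) ⊤) q :=
  { (hTopEquiv (X := X.toTopCat) (Coh.toAb F) q) with
    map_smul' := fun a x => (Ext.comp_assoc_of_third_deg_zero _ x _ (zero_add q)).symm }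

/-- The comparison map on cohomology. -/
def Θ (F : X.Modules) (q : ℕ) : K ⊗[k] Coh.HH X F q →+ Coh.HH Y ((Scheme.Modules.pullback g).obj F) q :=
  (hTopEquiv (X := Y.toTopCat) (Coh.toAb ((Scheme.Modules.pullback g).obj F)) q).symm.toAddMonoidHom.comp
    ((Th (X := X.toTopCat) (X' := Y.toTopCat) g.base (ρX k X F) (PullTheta.fam (fX K Y) g F)
      (PullTheta.fam_smul (fX k X) (fX K Y) g sq F) (U := (⊤ : X.Opens)) (U' := (⊤ : Y.Opens)) le_rfl q).comp
      (TensorProduct.congr (LinearEquiv.refl k K) (e₁ F q)).toAddMonoidHom)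

theorem Θ_tmul (F : X.Modules) (q : ℕ) (c : K) (z : Coh.HH X F q) :
    Θ g sq F q (c ⊗ₜ z) = (hTopEquiv (X := Y.toTopCat) (Coh.toAb ((Scheme.Modules.pullback g).obj F)) q).symm
      ((Ext.mk₀ (cMap (X := X.toTopCat) (X' := Y.toTopCat) g.base (U := (⊤ : X.Opens))
          (U' := (⊤ : Y.Opens)) le_rfl)).comp
        ((((hTopEquiv (X := X.toTopCat) (Coh.toAb F) q) z).mapExactFunctor
            (pullAb (X := X.toTopCat) (X' := Y.toTopCat) g.base)).comp
          (Ext.mk₀ (transp (X := X.toTopCat) (X' := Y.toTopCat) g.base (PullTheta.fam (fX K Y) g F) c))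
          (add_zero q)) (zero_add q)) :=
  rfl

omit [Algebra k K] [X.Over (Spec (CommRingCat.of k))] in
theorem transp_natural {F F' : X.Modules} (ψ : F ⟶ F') (c : K) :
    (pullAb (X := X.toTopCat) (X' := Y.toTopCat) g.base).map (tm ψ) ≫
      transp (X := X.toTopCat) (X' := Y.toTopCat) g.base (PullTheta.fam (fX K Y) g F') c =
    transp (X := X.toTopCat) (X' := Y.toTopCat) g.base (PullTheta.fam (fX K Y) g F) c ≫
      tm ((Scheme.Modules.pullback g).map ψ) := by
  let P := SheafTheta.pushAb (X := X.toTopCat) (X' := Y.toTopCat) g.base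
  have h1 : tm ψ ≫ tm ((Scheme.Modules.pullbackPushforwardAdjunction g).unit.app F') =
      tm ((Scheme.Modules.pullbackPushforwardAdjunction g).unit.app F) ≫
        P.map (tm ((Scheme.Modules.pullback g).map ψ)) := by
    have h := congrArg (fun a => tm a) ((Scheme.Modules.pullbackPushforwardAdjunction g).unit.naturality ψ)
    simp only [Functor.id_map, Functor.comp_map, tm, Functor.map_comp] at h
    exact h
  have h2 : tm ψ ≫ PullTheta.fam (fX K Y) g F' c =
      PullTheta.fam (fX K Y) g F c ≫ P.map (tm ((Scheme.Modules.pullback g).map ψ)) := by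
    refine ((Category.assoc _ _ _).symm.trans (congrArg (fun a => a ≫ _) h1)).trans ?_
    refine ((Category.assoc _ _ _).trans (congrArg (fun a => _ ≫ a) ?_)).trans (Category.assoc _ _ _).symm
    refine (P.map_comp _ _).symm.trans ((congrArg P.map ?_).trans (P.map_comp _ _))
    exact (Groth.L16.CohLinear.smulAb_naturality ((Scheme.Modules.pullback g).map ψ) _).symm
  change (pullAb _).map (tm ψ) ≫ (pullAb _).map _ ≫ _ = ((pullAb _).map _ ≫ _) ≫ _
  rw [← Category.assoc, ← Functor.map_comp]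
  refine (congrArg (fun a => (pullAb (X := X.toTopCat) (X' := Y.toTopCat) g.base).map a ≫ _) h2).trans ?_
  rw [Functor.map_comp, Category.assoc, Category.assoc]
  exact congrArg _ ((adj (X := X.toTopCat) (X' := Y.toTopCat) g.base).counit.naturality _)

theorem hTop_map {Z : TopCat.{u}} {A B : Groth.L17.AbSheaf Z} (s : A ⟶ B) (q : ℕ) (y : Sheaf.H.{u} A q) :
    hTopEquiv B q (Sheaf.H.map s q y) = ((hTopEquiv A q) y).comp (Ext.mk₀ s) (add_zero q) :=
  (Ext.comp_assoc_of_third_deg_zero _ y (Ext.mk₀ s) (zero_add q)).symm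

theorem hTop_symm_map {Z : TopCat.{u}} {A B : Groth.L17.AbSheaf Z} (s : A ⟶ B) (q : ℕ) (y) :
    (hTopEquiv B q).symm (y.comp (Ext.mk₀ s) (add_zero q)) = Sheaf.H.map s q ((hTopEquiv A q).symm y) :=
  (hTopEquiv B q).injective (by rw [AddEquiv.apply_symm_apply, hTop_map, AddEquiv.apply_symm_apply])

/-- The comparison is natural. -/
theorem Θ_natural {F F' : X.Modules} (ψ : F ⟶ F') (q : ℕ) (c : K) (z : Coh.HH X F q) :
    Θ g sq F' q (c ⊗ₜ hmap ψ q z) = hmap ((Scheme.Modules.pullback g).map ψ) q (Θ g sq F q (c ⊗ₜ z)) := by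
  rw [Θ_tmul, Θ_tmul]
  refine Eq.trans ?_ (hTop_symm_map (Z := Y.toTopCat) (tm ((Scheme.Modules.pullback g).map ψ)) q _)
  refine congrArg _ ?_
  change (Ext.mk₀ _).comp (((hTopEquiv (X := X.toTopCat) (Coh.toAb F') q
    (Sheaf.H.map (tm ψ) q z)).mapExactFunctor _).comp _ _) _ = _
  erw [hTop_map (Z := X.toTopCat)]
  rw [Ext.mapExactFunctor_comp, Ext.mapExactFunctor_mk₀, Ext.comp_assoc_of_third_deg_zero,
    Ext.mk₀_comp_mk₀, transp_natural, ← Ext.mk₀_comp_mk₀, Ext.comp_assoc_of_third_deg_zero,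
    Ext.comp_assoc_of_third_deg_zero]

/-- The comparison is linear over the bigger field. -/
theorem Θ_smul (F : X.Modules) (q : ℕ) (b : K) (c : K) (z : Coh.HH X F q) :
    Θ g sq F q ((b * c) ⊗ₜ z) = b • Θ g sq F q (c ⊗ₜ z) := by
  rw [Θ_tmul, Θ_tmul]
  refine Eq.trans ?_ (hTop_symm_map (Z := Y.toTopCat) (Coh.smulAb _ (Coh.toGlobal (fX K Y) b)) q _)
  refine congrArg _ ?_
  have h1 : transp (X := X.toTopCat) (X' := Y.toTopCat) g.base (PullTheta.fam (fX K Y) g F) (b * c) =
      transp (X := X.toTopCat) (X' := Y.toTopCat) g.base (PullTheta.fam (fX K Y) g F) c ≫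
        Coh.smulAb _ (Coh.toGlobal (fX K Y) b) := by
    change (pullAb _).map (PullTheta.fam (fX K Y) g F (b • c)) ≫ _ = ((pullAb _).map _ ≫ _) ≫ _
    rw [PullTheta.fam_smul', Functor.map_comp, Category.assoc, Category.assoc]
    exact congrArg _ ((adj (X := X.toTopCat) (X' := Y.toTopCat) g.base).counit.naturality _)
  rw [h1, ← Ext.mk₀_comp_mk₀, Ext.comp_assoc_of_third_deg_zero, Ext.comp_assoc_of_third_deg_zero]

variable [IsProper (X ↘ Spec (CommRingCat.of k))]

/-- The comparison is bijective. -/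
theorem Θ_bijective (F : X.Modules) [Coh.IsQCoh F] (q : ℕ) : Function.Bijective (Θ g sq F q) := by
  haveI := Groth.L21.RR.isNoetherian_of_proper (X := X) k
  haveI := Groth.L17.BC.isAffineHom_of_isPullback (fX k X) (fX K Y) g sq
  haveI : Coh.IsQCoh ((Scheme.Modules.pullback g).obj F) := Groth.L16.AffineBC.isQCoh_pullback g F
  exact (hTopEquiv (X := Y.toTopCat) (Coh.toAb ((Scheme.Modules.pullback g).obj F)) q).symm.bijective.comp ((SchemeTheta.bijective_Th g (Coh.toGlobal (fX k X)) (PullTheta.fam (fX K Y) g F)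
    (PullTheta.fam_smul (fX k X) (fX K Y) g sq F) (PullTheta.bijOn (fX k X) (fX K Y) g sq F) isCompact_univ q).comp
    (TensorProduct.congr (LinearEquiv.refl k K) (e₁ F q)).bijective)

/-- Cohomology after the extension of the ground field, linearly. -/
def ΘEquiv (F : X.Modules) [Coh.IsQCoh F] (q : ℕ) :
    K ⊗[k] Coh.HH X F q ≃ₗ[K] Coh.HH Y ((Scheme.Modules.pullback g).obj F) q :=
  { AddEquiv.ofBijective (Θ g sq F q) (Θ_bijective g sq F q) with
    map_smul' := fun b w => by
      change Θ g sq F q (b • w) = b • Θ g sq F q w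
      induction w using TensorProduct.induction_on with
      | zero => simp
      | add x y hx hy => rw [smul_add, map_add, hx, hy, map_add, smul_add]
      | tmul c z => rw [TensorProduct.smul_tmul', smul_eq_mul, Θ_smul] }

/-- Pullback of classes. -/
def pullH (F : X.Modules) (q : ℕ) (z : Coh.HH X F q) : Coh.HH Y ((Scheme.Modules.pullback g).obj F) q :=
  Θ g sq F q ((1 : K) ⊗ₜ z)

omit [IsProper (X ↘ Spec (CommRingCat.of k))] in
theorem pullH_natural {F F' : X.Modules} (ψ : F ⟶ F') (q : ℕ) (z : Coh.HH X F q) :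
    pullH g sq F' q (hmap ψ q z) = hmap ((Scheme.Modules.pullback g).map ψ) q (pullH g sq F q z) :=
  Θ_natural g sq ψ q 1 z

theorem ΘEquiv_one_tmul (F : X.Modules) [Coh.IsQCoh F] (q : ℕ) (z : Coh.HH X F q) :
    ΘEquiv g sq F q ((1 : K) ⊗ₜ z) = pullH g sq F q z := rfl

end Groth.L21.CurveDual.BC
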