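import Groth.Agent.L21.CurveDual.Euler

/-!
Extensions of modules by the dualizing module.
-/

set_option autoImplicit false
set_option backward.isDefEq.respectTransparency false
set_option backward.isDefEq.respectTransparency.types false
set_option linter.style.haveILetI false
universe u

open CategoryTheory CategoryTheory.Limits AlgebraicGeometry Opposite

noncomputable section

namespace Groth.L21.CurveDual

open Groth.L21.RR (SuppClosed h)

variable {X : Scheme.{u}} {k : Type u} [Field k] [X.Over (Spec (CommRingCat.of k))]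
  [IsProper (X ↘ Spec (CommRingCat.of k))] {ω : X.Modules} {t : Coh.HH X ω 1 →ₗ[k] k}

/-- An exact sequence `ω → F → Q → 0` with `H¹Q = 0` splits unless `H¹F = 0`. -/
theorem h1_zero_or_split (hd : topologicalKrullDim X ≤ 1) (hω : Canon.IsRDualOver k X 1 ω t)
    (h0 : h k 0 (Coh.structureModule X) ≤ 1) {F Q : X.Modules} (hF : Coh.IsQCoh F) (hQ : Coh.IsQCoh Q)
    (f : ω ⟶ F) (g : F ⟶ Q) [Epi g] (w : f ≫ g = 0) (hex : (ShortComplex.mk f g w).Exact)
    (hQ1 : Subsingleton (Coh.HH X Q 1)) :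
    Subsingleton (Coh.HH X F 1) ∨ ∃ r : F ⟶ ω, f ≫ r = 𝟙 ω := by
  refine or_iff_not_imp_left.2 fun hF1 => ?_
  obtain ⟨φ, hφ⟩ := exists_ne_zero_of_h1 hω hF hF1
  have hne : f ≫ φ ≠ 0 := fun hz => hφ (by
    have h1 : hex.gIsCokernel.desc (CokernelCofork.ofπ φ hz) = 0 := (subsingleton_h1_iff hω hQ).1 hQ1 _
    have h2 : g ≫ hex.gIsCokernel.desc (CokernelCofork.ofπ φ hz) = φ :=
      hex.gIsCokernel.fac (CokernelCofork.ofπ φ hz) WalkingParallelPair.one
    rw [← h2, h1, comp_zero])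
  haveI := finite_hom hω (isCoh hd hω)
  have hle : Module.finrank k (ω ⟶ ω) ≤ 1 := (finrank_hom hω ω hω.1).trans_le ((h1_le hd hω).trans h0)
  haveI : Nontrivial (ω ⟶ ω) := ⟨⟨_, _, hne⟩⟩
  have hone : Module.finrank k (ω ⟶ ω) = 1 := le_antisymm hle Module.finrank_pos
  obtain ⟨c, hc⟩ := (finrank_eq_one_iff_of_nonzero' (f ≫ φ) hne).1 hone (𝟙 ω)
  exact ⟨c • φ, by rw [Linear.comp_smul, hc]⟩

end Groth.L21.CurveDual
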