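import Groth.Agent.L21.CurveDual.Support
import Groth.Agent.L21.CurveDual.Reduced
import Groth.Agent.L22.EnrSev.Twist
import Groth.Agent.L02.Quot.GG
import Groth.Agent.L08.Cube.NoCurve

/-!
`H¹(ω ⊗ L) = 0` for non-trivial globally generated `L`.
-/

set_option autoImplicit false
set_option backward.isDefEq.respectTransparency false
set_option backward.isDefEq.respectTransparency.types false
set_option linter.style.haveILetI false
universe u

open CategoryTheory CategoryTheory.Limits AlgebraicGeometry Opposite TensorProduct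

noncomputable section

namespace Groth.L21.CurveDual

open Groth.L21.RR (h st mulS)
open Groth.L18.GenLoc (secOf)

variable {X : Scheme.{u}}

/-- A map out of `M ⊗ L` killed by all sections of a globally generated `L` is zero. -/
theorem eq_zero_of_mulS {M L N : X.Modules} (hgg : Curv2.IsGloballyGenerated L)
    (φ : CohB1.tensorMod M L ⟶ N) (hz : ∀ s : Coh.structureModule X ⟶ L, mulS M s ≫ φ = 0) : φ = 0 := by
  refine Groth.L21.Mod.hom_ext_stalk fun x => ?_
  ext v
  rw [Functor.map_zero]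
  change st φ x v = 0
  obtain ⟨u, rfl⟩ : ∃ u, (Groth.L00.Stk.τ x M L).hom u = v :=
    ⟨(Groth.L00.Stk.τ x M L).inv v, Iso.inv_hom_id_apply (Groth.L00.Stk.τ x M L) v⟩
  suffices H : (st φ x ∘ₗ (Groth.L00.Stk.τ x M L).hom.hom) u = 0 from H
  suffices H : st φ x ∘ₗ (Groth.L00.Stk.τ x M L).hom.hom = 0 by rw [H]; rfl
  refine TensorProduct.ext (LinearMap.ext fun m => ?_)
  refine LinearMap.ext_on (Groth.L02.Quot.span_germ_top_of_gg hgg x) ?_
  rintro _ ⟨g, rfl⟩
  have h1 := Groth.L22.EnrSev.st_mulS_eq M (Groth.L16.homOfSection L g) x m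
  rw [Groth.L18.GenLoc.secOf_homOfSection] at h1
  change st φ x ((Groth.L00.Stk.τ x M L).hom (m ⊗ₜ[X.presheaf.stalk x] L.presheaf.germ ⊤ x trivial g)) = 0
  rw [← h1, ← Groth.L21.RR.st_comp, hz]
  simp [st]
  rfl

/-- Splitting of multiplication by a section forces it to generate on the support. -/
theorem mem_genLocus_of_retraction [IsLocallyNoetherian X] {M L : X.Modules} (hM : Coh.IsCoh M)
    (hL : PicF.IsInvertible L) (s : Coh.structureModule X ⟶ L) (r : CohB1.tensorMod M L ⟶ M)
    (hr : mulS M s ≫ r = 𝟙 M) {x : X} (hx : x ∈ CohB1.support M) : x ∈ CohB1.genLocus L s := by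
  by_contra hns
  refine hx ?_
  haveI : Module.Finite (X.presheaf.stalk x) (M.presheaf.stalk x) :=
    Groth.L19.SupportPullback.finite_stalk _ hM x
  obtain ⟨W, ε, hxW, hε⟩ := Groth.L18.Frame.exists_frame hL x
  obtain ⟨b, hb, -⟩ := Groth.L21.RR.exists_coeff_secOf hε s
  have hbm : X.presheaf.germ W x hxW b ∈ IsLocalRing.maximalIdeal (X.presheaf.stalk x) := by
    rw [IsLocalRing.mem_maximalIdeal, mem_nonunits_iff]
    intro h
    exact hns ((Groth.L18.GenLoc.genLocus_inf_eq s hε hb).ge ((X.mem_basicOpen b x hxW).2 h)).1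
  have hgerm : L.presheaf.germ ⊤ x trivial (secOf s) =
      X.presheaf.germ W x hxW b • L.presheaf.germ W x hxW ε := by
    rw [← Groth.L20.ModStalk.germ_rs L (le_top : W ≤ ⊤) hxW (secOf s), ← hb, Groth.L20.ModStalk.germ_smul]
  have hle : (⊤ : Submodule (X.presheaf.stalk x) (M.presheaf.stalk x)) ≤
      IsLocalRing.maximalIdeal (X.presheaf.stalk x) • ⊤ := by
    intro v _
    have h1 : st r x (st (mulS M s) x v) = v := by
      rw [← Groth.L21.RR.st_comp, hr]
      simp [st]
    rw [Groth.L22.EnrSev.st_mulS_eq, hgerm] at h1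
    have h2 : v = X.presheaf.germ W x hxW b •
        st r x ((Groth.L00.Stk.τ x M L).hom (v ⊗ₜ[X.presheaf.stalk x] L.presheaf.germ W x hxW ε)) := by
      refine h1.symm.trans ?_
      have h3 : ∀ q : L.presheaf.stalk x, (Groth.L00.Stk.τ x M L).hom
          (v ⊗ₜ[X.presheaf.stalk x] (X.presheaf.germ W x hxW b • q)) =
          X.presheaf.germ W x hxW b • (Groth.L00.Stk.τ x M L).hom (v ⊗ₜ[X.presheaf.stalk x] q) := fun q =>
        (congrArg _ ((TensorProduct.mk (X.presheaf.stalk x) _ _ v).map_smul _ q)).trans (map_smul _ _ _)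
      rw [h3]
      exact map_smul _ _ _
    rw [h2]
    exact Submodule.smul_mem_smul hbm trivial
  exact (Submodule.subsingleton_iff (X.presheaf.stalk x)).1 (subsingleton_of_bot_eq_top
    (Submodule.eq_bot_of_le_smul_of_le_jacobson_bot _ _ Module.Finite.fg_top hle
      (IsLocalRing.maximalIdeal_le_jacobson _)).symm)

variable {k : Type u} [Field k] [X.Over (Spec (CommRingCat.of k))] [IsProper (X ↘ Spec (CommRingCat.of k))]
  {ω : X.Modules} {t : Coh.HH X ω 1 →ₗ[k] k}

/-- `H¹(ω ⊗ L) = 0`. -/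
theorem h1_tensor_zero [ConnectedSpace X] (hdim : topologicalKrullDim X = 1)
    (h0 : h k 0 (Coh.structureModule X) = 1) (hω : Canon.IsRDualOver k X 1 ω t) {L : X.Modules}
    (hL : PicF.IsInvertible L) (hgg : Curv2.IsGloballyGenerated L) (hnt : IsEmpty (L ≅ Coh.structureModule X)) :
    Subsingleton (Coh.HH X (CohB1.tensorMod ω L) 1) := by
  haveI := Groth.L21.RR.isNoetherian_of_proper (X := X) k
  have hωc := isCoh hdim.le hω
  by_contra h1
  obtain ⟨φ, hφ⟩ := exists_ne_zero_of_h1 hω (Groth.L03.Euler.isCoh_tensor hL hωc).1 h1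
  obtain ⟨s, hs⟩ : ∃ s, mulS ω s ≫ φ ≠ 0 := by
    by_contra hh
    push Not at hh
    exact hφ (eq_zero_of_mulS hgg φ hh)
  haveI := finite_hom hω hωc
  haveI : Nontrivial (ω ⟶ ω) := ⟨⟨_, _, hs⟩⟩
  have hone : Module.finrank k (ω ⟶ ω) = 1 :=
    le_antisymm ((finrank_hom hω ω hω.1).trans_le ((h1_le hdim.le hω).trans h0.le)) Module.finrank_pos
  obtain ⟨c, hc⟩ := (finrank_eq_one_iff_of_nonzero' _ hs).1 hone (𝟙 ω)
  have hr : mulS ω s ≫ (c • φ) = 𝟙 ω := by rw [Linear.comp_smul]; exact hc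
  have htop : CohB1.genLocus L s = ⊤ := by
    refine top_le_iff.1 fun x _ => mem_genLocus_of_retraction hωc hL s _ hr ?_
    obtain ⟨w, hw, hwx⟩ := exists_nonclosed_gen hdim x
    exact hwx.mem_closed (Groth.L16.CohSupport.isClosed_support ω hωc.2)
      (mem_support_of_not_isClosed hdim.le hω hw)
  exact hnt.false (Groth.L08.Cube.nonempty_iso_of_genLocus_eq_top s htop).some

end Groth.L21.CurveDual
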